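import Cfsg.Agent.H754.PQ.Diag
import Cfsg.Agent.ClassicalGeometry.AutPSL.Root
import Cfsg.Agent.H892.HT.Disp

/-!
# S4933: the Sylow `p`-subgroups of `PSL_n(F)` are abelian for `n < p`, `p ∣ |F| - 1` (helper279)
-/

set_option autoImplicit false

open Subgroup Matrix
open scoped MatrixGroups Pointwise

namespace Cfsg.Agent.H279.HT.PslAb

theorem comm_of_sylow {G : Type*} [Group G] [Finite G] {p : ℕ} [Fact p.Prime] (Q : Sylow p G)
    (hQ : ∀ x ∈ (Q : Subgroup G), ∀ y ∈ (Q : Subgroup G), x * y = y * x) (P : Subgroup G) (hP : IsPGroup p P) :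
    ∀ x ∈ P, ∀ y ∈ P, x * y = y * x := by
  obtain ⟨R, hR⟩ := hP.exists_le_sylow
  obtain ⟨g, rfl⟩ := MulAction.exists_smul_eq G Q R
  intro x hx y hy
  have hx' := hR hx
  have hy' := hR hy
  rw [Sylow.coe_subgroup_smul, Subgroup.mem_pointwise_smul_iff_inv_smul_mem] at hx' hy'
  have h := hQ _ hx' _ hy'
  rw [← smul_mul', ← smul_mul'] at h
  exact smul_left_cancel _ h

theorem ab_of_lt {F : Type*} [Field F] [Fintype F] {p : ℕ} [hp : Fact p.Prime] {n : ℕ} (hp2 : p ≠ 2)
    (hF : p ∣ Fintype.card F - 1) (hn : n < p) (P : Sylow p (Matrix.ProjectiveSpecialLinearGroup (Fin n) F)) :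
    IsMulCommutative P := by
  classical
  obtain ⟨T, hT⟩ := H754.PQ.exists_diag_sylow (p := p) hp2 (Fin n) F (by rwa [Fintype.card_fin]) hF
  have hTc : ∀ x ∈ (T : Subgroup (GL (Fin n) F)), ∀ y ∈ (T : Subgroup (GL (Fin n) F)), x * y = y * x := by
    intro x hx y hy
    apply Units.ext
    have hx' : (x : Matrix (Fin n) (Fin n) F) = Matrix.diagonal fun i => (x : Matrix (Fin n) (Fin n) F) i i := by
      ext i j
      rw [Matrix.diagonal_apply]
      split_ifs with h
      · rw [h]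
      · exact hT x hx i j h
    have hy' : (y : Matrix (Fin n) (Fin n) F) = Matrix.diagonal fun i => (y : Matrix (Fin n) (Fin n) F) i i := by
      ext i j
      rw [Matrix.diagonal_apply]
      split_ifs with h
      · rw [h]
      · exact hT y hy i j h
    rw [Units.val_mul, Units.val_mul, hx', hy', Matrix.diagonal_mul_diagonal, Matrix.diagonal_mul_diagonal]
    congr 1
    funext i
    exact mul_comm _ _
  obtain ⟨Q⟩ : Nonempty (Sylow p (Matrix.SpecialLinearGroup (Fin n) F)) := inferInstance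
  have hQ : ∀ x ∈ (Q : Subgroup (Matrix.SpecialLinearGroup (Fin n) F)),
      ∀ y ∈ (Q : Subgroup (Matrix.SpecialLinearGroup (Fin n) F)), x * y = y * x := by
    intro x hx y hy
    have h := comm_of_sylow T hTc ((Q : Subgroup _).map Matrix.SpecialLinearGroup.toGL) (Q.2.map _)
      _ (mem_map_of_mem _ hx) _ (mem_map_of_mem _ hy)
    rw [← map_mul, ← map_mul] at h
    exact Matrix.SpecialLinearGroup.toGL_injective h
  let Q' : Sylow p (Matrix.ProjectiveSpecialLinearGroup (Fin n) F) :=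
    Q.mapSurjective (f := ClassicalGeometry.AutPSL.Root.pr) ClassicalGeometry.AutPSL.Root.pr_surjective
  have hQ' : ∀ x ∈ (Q' : Subgroup (Matrix.ProjectiveSpecialLinearGroup (Fin n) F)),
      ∀ y ∈ (Q' : Subgroup (Matrix.ProjectiveSpecialLinearGroup (Fin n) F)), x * y = y * x := by
    rintro _ ⟨x, hx, rfl⟩ _ ⟨y, hy, rfl⟩
    rw [← map_mul, ← map_mul, hQ x hx y hy]
  refine ⟨⟨fun a b => Subtype.ext ?_⟩⟩
  exact comm_of_sylow Q' hQ' P P.2 a a.2 b b.2

end Cfsg.Agent.H279.HT.PslAb
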