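import Cfsg.Agent.H279.HT.PslRow
import Cfsg.Agent.H279.HT.PslAb
import Cfsg.Agent.H624.HT.RowOf
import Cfsg.Agent.H892.HT.Disp

/-!
# S4933: the row of `PSL_n(F)`, `p` odd, `p ∣ |F| - 1` (helper279)

* `goodOn_of_res` : `ξ ∈ B₀(N P)` with irreducible restriction `ψ` to `N`, `v_p (ψ(1)) = 1`;
* `row_psl` : `Row p (PSL_n(F))` for `p ≤ n`, `(n, p) ≠ (3, 3)`;
* `psl_e1`  : the field `OddRows.psl_e1` (box o.psl.e1);
* `psl_diag_of` : the field `OddRows.psl_diag`, except `n = p = 3` (a hypothesis).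
-/

set_option autoImplicit false

open Cfsg Subgroup
open Cfsg.Agent.H316.HT

namespace Cfsg.Agent.H279.HT

theorem goodOn_of_res {A : Type} [Group A] [Finite A] {p : ℕ} [hp : Fact p.Prime] {M : Ideal AlgInt}
    (hM : IsPModular p M) (N : Subgroup A) [hN : N.Normal] (P : Sylow p A) {a : ℕ} (ha : 0 < a)
    (ξ : IrrCharacter (N ⊔ (P : Subgroup A) : Subgroup A)) (ψ : IrrCharacter N) (hψ : ψ ∈ principalBlock M N)
    (hres : ∀ n : N, (ξ : (N ⊔ (P : Subgroup A) : Subgroup A) → ℂ) ⟨n, mem_sup_left n.2⟩ = (ψ : N → ℂ) n)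
    (hv : (charDegree (ψ : N → ℂ)).factorization p = 1) : GoodOn p a M N := by
  have hdiv : p ∣ charDegree (ψ : N → ℂ) := Nat.dvd_of_factorization_pos (by rw [hv]; exact one_ne_zero)
  refine H624.HT.goodOn_of hM N P ψ hψ (N ⊔ P) rfl ξ ?_ ?_ (Or.inl hdiv) ?_
  · intro _
    have h3 : (fun n : N => (ξ : ↥(N ⊔ (P : Subgroup A)) → ℂ) ⟨n, mem_sup_left n.2⟩) = (ψ : N → ℂ) := funext hres
    rw [h3, Cfsg.Agent.Characters.Core.classInner_irr_self ψ.2]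
    exact one_ne_zero
  · have h1 : charDegree (ξ : ↥(N ⊔ (P : Subgroup A)) → ℂ) = charDegree (ψ : N → ℂ) := by
      unfold charDegree
      rw [← hres 1]
      rfl
    rw [vd, h1, hv]
    exact ha
  · intro h0
    have h4 : charDegree (ψ : N → ℂ) = 1 := by
      rw [h0]
      simp [charDegree]
    rw [h4] at hdiv
    exact hp.out.one_lt.ne' (Nat.dvd_one.1 hdiv)

/-- **The row of `PSL_n(F)`**, `p` odd, `p ∣ |F| - 1`, `p ≤ n`, `(n, p) ≠ (3, 3)`. -/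
theorem row_psl {p : ℕ} [hp : Fact p.Prime] {F : Type} [Field F] [Fintype F] {n : ℕ} (hp2 : p ≠ 2)
    (hF : p ∣ Fintype.card F - 1) (hn : p ≤ n) (h3 : ¬ (p = 3 ∧ n = 3)) :
    Row p (Matrix.ProjectiveSpecialLinearGroup (Fin n) F) := by
  intro A _ _ N _ ⟨e⟩ _ M hM P a ha _
  obtain ⟨ξ, -, ψ, h1, h2, h4⟩ := PslRow.exists_chars hM hp2 hF hn h3 N e (P : Subgroup A) P.isPGroup'
  exact goodOn_of_res hM N P ha ξ ψ h1 h2 h4

/-- **box o.psl.e1** -/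
theorem psl_e1 : ∀ (p : ℕ) [Fact p.Prime] (F : Type) [Field F] [Fintype F] (n : ℕ)
    [IsSimpleGroup (Matrix.ProjectiveSpecialLinearGroup (Fin n) F)], p ≠ 2 → 2 ≤ n → ¬ p ∣ Fintype.card F →
    p ∣ Fintype.card F - 1 → ¬ p ∣ n → ¬ H892.HT.Ab p (Matrix.ProjectiveSpecialLinearGroup (Fin n) F) →
    Row p (Matrix.ProjectiveSpecialLinearGroup (Fin n) F) := by
  intro p _ F _ _ n _ hp2 _ _ hF hn hab
  rcases Nat.lt_or_ge n p with h | h
  · exact absurd (fun P => PslAb.ab_of_lt hp2 hF h P) hab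
  · exact row_psl hp2 hF h (by rintro ⟨rfl, rfl⟩; exact hn (dvd_refl _))

/-- **box o.diag** for `PSL_n`, except `n = p = 3` -/
theorem psl_diag_of (hthree : ∀ (F : Type) [Field F] [Fintype F], 3 ∣ Fintype.card F - 1 →
      ¬ H892.HT.Ab 3 (Matrix.ProjectiveSpecialLinearGroup (Fin 3) F) →
      Row 3 (Matrix.ProjectiveSpecialLinearGroup (Fin 3) F)) :
    ∀ (p : ℕ) [Fact p.Prime] (F : Type) [Field F] [Fintype F] (n : ℕ)
    [IsSimpleGroup (Matrix.ProjectiveSpecialLinearGroup (Fin n) F)], p ≠ 2 → 2 ≤ n → ¬ p ∣ Fintype.card F →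
    p ∣ Fintype.card F - 1 → p ∣ n → ¬ H892.HT.Ab p (Matrix.ProjectiveSpecialLinearGroup (Fin n) F) →
    Row p (Matrix.ProjectiveSpecialLinearGroup (Fin n) F) := by
  intro p _ F _ _ n _ hp2 h2 _ hF hn hab
  by_cases h3 : p = 3 ∧ n = 3
  · obtain ⟨rfl, rfl⟩ := h3
    exact hthree F hF hab
  · exact row_psl hp2 hF (Nat.le_of_dvd (by omega) hn) h3

end Cfsg.Agent.H279.HT
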