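import Cfsg.Agent.H279.HT.ThreeNine
import Cfsg.Agent.H279.HT.Psl
import Cfsg.Agent.H681.IP.Row

/-!
# S4933: the row of `PSL_3(F)`, `p = 3`, `9 ∣ |F| - 1` (helper279)
-/

set_option autoImplicit false

namespace Cfsg.Agent.H279.HT.ThreeRow

open Cfsg Subgroup Equiv Matrix
open Cfsg.Agent.ClassicalGeometry.AutPSL.Root Cfsg.Agent.ClassicalGeometry.AutPSL.Auto
open Cfsg.Agent.ClassicalGeometry.AutPSL.Main
open Cfsg.Agent.CpAut.Psl
open Cfsg.Agent.H279.HT.PslAut Cfsg.Agent.H279.HT.Three Cfsg.Agent.H279.HT.ThreeNine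
open Cfsg.Agent.H316.HT

universe u

theorem fix_iff {F : Type*} [Field F] {l : Fˣ →* ℂˣ} {τ : F ≃+* F} :
    Fix (sv l) τ ↔ ∀ x, l (Units.map (τ : F →* F) x) = l x := by
  constructor
  · intro h x
    exact h 0 x
  · intro h i x
    fin_cases i
    · exact h x
    · show (l (Units.map (τ : F →* F) x))⁻¹ = (l x)⁻¹
      rw [h]
    · rfl

/-- the automorphisms whose field part fixes `l` -/
def QF {F : Type*} [Field F] (l : Fˣ →* ℂˣ) : Subgroup (MulAut (Matrix.ProjectiveSpecialLinearGroup (Fin 3) F)) where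
  carrier := {α | ∃ (C : GL (Fin 3) F) (τ : F ≃+* F), Fix (sv l) τ ∧ α = lift (cj C * fld τ)}
  one_mem' := ⟨1, 1, Fix.one, by rw [map_one, map_one, one_mul, map_one]⟩
  mul_mem' := by
    rintro _ _ ⟨A, σ, hσ, rfl⟩ ⟨B, τ, hτ, rfl⟩
    exact ⟨A * fgl σ B, σ * τ, hσ.mul hτ, by rw [← map_mul, cjfld_mul]⟩
  inv_mem' := by
    rintro _ ⟨A, σ, hσ, rfl⟩
    refine ⟨(fgl σ⁻¹ A)⁻¹, σ⁻¹, hσ.inv, ?_⟩
    rw [inv_eq_iff_mul_eq_one, ← map_mul, cjfld_mul, mul_inv_cancel, map_inv]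
    have h1 : fgl σ (fgl σ⁻¹ A) = A := by
      apply Units.ext
      ext i j
      exact σ.apply_symm_apply _
    rw [h1, mul_inv_cancel, map_one, map_one, one_mul, map_one]

theorem inv_el {F : Type*} [Field F] (C : GL (Fin 3) F) (σ : F ≃+* F) :
    ∃ C' : GL (Fin 3) F, (lift (cj C * fld σ))⁻¹ = lift (cj C' * fld σ⁻¹) := by
  refine ⟨(fgl σ⁻¹ C)⁻¹, ?_⟩
  rw [inv_eq_iff_mul_eq_one, ← map_mul, cjfld_mul, mul_inv_cancel, map_inv]
  have h1 : fgl σ (fgl σ⁻¹ C) = C := by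
    apply Units.ext
    ext i j
    exact σ.apply_symm_apply _
  rw [h1, mul_inv_cancel, map_one, map_one, one_mul, map_one]

theorem mul_el {F : Type*} [Field F] (C D : GL (Fin 3) F) (σ τ : F ≃+* F) :
    ∃ C' : GL (Fin 3) F, lift (cj C * fld σ) * lift (cj D * fld τ) = lift (cj C' * fld (σ * τ)) :=
  ⟨C * fgl σ D, by rw [← map_mul, cjfld_mul]⟩

variable {F : Type} [Field F] [Fintype F]

/-- the elements of `N P` -/
theorem exists_el {A : Type u} [Group A] (N : Subgroup A) [hNn : N.Normal]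
    (e : N ≃* Matrix.ProjectiveSpecialLinearGroup (Fin 3) F) (P : Subgroup A) (hP : IsPGroup 3 P) {x : A}
    (hx : x ∈ N ⊔ P) : ∃ (C : GL (Fin 3) F) (τ : F ≃+* F) (k : ℕ),
      H112.HT.act N e x = lift (cj C * fld τ) ∧ τ ^ 3 ^ k = 1 := by
  have hp : Fact (Nat.Prime 3) := ⟨Nat.prime_three⟩
  rw [← SetLike.mem_coe, Subgroup.normal_mul] at hx
  obtain ⟨m, hm, y, hy, rfl⟩ := Set.mem_mul.1 hx
  obtain ⟨k, hk⟩ := hP ⟨y, hy⟩
  have hk' : y ^ 3 ^ k = 1 := congrArg Subtype.val hk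
  have hα : (H112.HT.act N e y) ^ 3 ^ k = 1 := by rw [← map_pow, hk', map_one]
  obtain ⟨C, σ, h, hσ⟩ := PslRow.exists_of_pow (p := 3) (by norm_num) (by norm_num) hα
  obtain ⟨g, hg⟩ := pr_surjective (e ⟨m, hm⟩)
  have hmg : m = ((e.symm (pr g) : N) : A) := by rw [hg, MulEquiv.symm_apply_apply]
  refine ⟨Matrix.SpecialLinearGroup.toGL g * C, σ, k, ?_, hσ⟩
  rw [map_mul, hmg, act_pr, h, ← map_mul, ← mul_assoc, ← map_mul]

/-- the stabiliser of `l` -/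
noncomputable def KK {A : Type u} [Group A] (N : Subgroup A) [hNn : N.Normal]
    (e : N ≃* Matrix.ProjectiveSpecialLinearGroup (Fin 3) F) (P : Subgroup A) (l : Fˣ →* ℂˣ) : Subgroup A :=
  (N ⊔ P) ⊓ (QF l).comap (H112.HT.act N e)

theorem le_KK {A : Type u} [Group A] (N : Subgroup A) [hNn : N.Normal]
    (e : N ≃* Matrix.ProjectiveSpecialLinearGroup (Fin 3) F) (P : Subgroup A) (l : Fˣ →* ℂˣ) : N ≤ KK N e P l := by
  intro x hx
  refine ⟨mem_sup_left hx, ?_⟩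
  obtain ⟨g, hg⟩ := pr_surjective (e ⟨x, hx⟩)
  have hmg : x = ((e.symm (pr g) : N) : A) := by rw [hg, MulEquiv.symm_apply_apply]
  show H112.HT.act N e x ∈ QF l
  rw [hmg, act_pr]
  exact ⟨Matrix.SpecialLinearGroup.toGL g, 1, Fix.one, by rw [map_one fld, mul_one]⟩

theorem KK_facts {A : Type u} [Group A] [Finite A] (N : Subgroup A) [hNn : N.Normal]
    (e : N ≃* Matrix.ProjectiveSpecialLinearGroup (Fin 3) F) (P : Subgroup A) (hP : IsPGroup 3 P)
    (hF : 3 ∣ Fintype.card F - 1) {l : Fˣ →* ℂˣ} (hl : ∀ x, l x ^ 9 = 1) :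
    ((KK N e P l).subgroupOf (N ⊔ P)).Normal ∧ ((KK N e P l).subgroupOf (N ⊔ P)).index ∣ 3 := by
  have hp : Fact (Nat.Prime 3) := ⟨Nat.prime_three⟩
  have hq : 3 ∣ Nat.card F - 1 := by rwa [Nat.card_eq_fintype_card]
  obtain ⟨ρ, hρ⟩ : ∃ ρ : A →* MulAut (Matrix.ProjectiveSpecialLinearGroup (Fin 3) F), ρ = H112.HT.act N e := ⟨_, rfl⟩
  have hex : ∀ x : ↥(N ⊔ P), ∃ (C : GL (Fin 3) F) (τ : F ≃+* F) (k : ℤ), ρ x = lift (cj C * fld τ) ∧
      ∀ u, l (Units.map (τ : F →* F) u) = l u * (l u ^ 3) ^ k := by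
    intro x
    obtain ⟨C, τ, r, h1, h2⟩ := exists_el N e P hP x.2
    obtain ⟨m, hm, k, hk⟩ := exists_exp (p := 3) hq h2
    refine ⟨C, τ, k, by rw [hρ, h1], fun u => ?_⟩
    have hmk : m = 1 + 3 * k := by push_cast at hk; omega
    rw [hm, map_zpow, hmk, _root_.zpow_add, _root_.zpow_one, _root_.zpow_mul]
    congr 2
  choose C τ k hC hk using hex
  have hmem : ∀ x : ↥(N ⊔ P), x ∈ (KK N e P l).subgroupOf (N ⊔ P) ↔ ρ x ∈ QF l := by
    intro x
    rw [mem_subgroupOf, hρ]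
    exact ⟨fun h => h.2, fun h => ⟨x.2, h⟩⟩
  constructor
  · refine ⟨fun y hy x => ?_⟩
    rw [hmem] at hy ⊢
    obtain ⟨D, κ, hκ, hy⟩ := hy
    obtain ⟨C1, h1⟩ := mul_el (C x) D (τ x) κ
    obtain ⟨C2, h2⟩ := inv_el (C x) (τ x)
    obtain ⟨C3, h3⟩ := mul_el C1 C2 (τ x * κ) (τ x)⁻¹
    refine ⟨C3, τ x * κ * (τ x)⁻¹, ?_, ?_⟩
    · rw [fix_iff] at hκ ⊢
      intro u
      obtain ⟨u', hu'⟩ : ∃ u', u' = Units.map (((τ x)⁻¹ : F ≃+* F) : F →* F) u := ⟨_, rfl⟩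
      have e1 : Units.map ((τ x * κ * (τ x)⁻¹ : F ≃+* F) : F →* F) u =
          Units.map (τ x : F →* F) (Units.map (κ : F →* F) u') := by
        rw [hu']
        apply Units.ext
        rfl
      have e2 : Units.map (τ x : F →* F) u' = u := by
        rw [hu']
        apply Units.ext
        exact (τ x).apply_symm_apply _
      rw [e1, hk, hκ, ← hk, e2]
    · show ρ ((x : A) * (y : A) * (x : A)⁻¹) = _
      rw [map_mul, map_mul, map_inv, hC, hy, h1, h2, h3]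
  · -- the index
    have h9 : ∀ (u : Fˣ) (a b : ℤ), (a : ZMod 3) = b → (l u ^ 3) ^ a = (l u ^ 3) ^ b := by
      intro u a b hab
      have h1 : (l u ^ 3) ^ (3 : ℤ) = 1 := by
        have : (l u ^ 3) ^ (3 : ℤ) = (l u ^ 3) ^ 3 := by norm_cast
        rw [this, ← pow_mul]
        exact hl u
      obtain ⟨c, hc⟩ := (ZMod.intCast_eq_intCast_iff_dvd_sub a b 3).1 hab
      have h2 : b = a + 3 * c := by push_cast at hc; omega
      rw [h2, _root_.zpow_add, _root_.zpow_mul, h1, _root_.one_zpow, mul_one]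
    have hinj : Function.Injective (fun q : ↥(N ⊔ P) ⧸ (KK N e P l).subgroupOf (N ⊔ P) =>
        ((k (q.out)⁻¹ : ℤ) : ZMod 3)) := by
      intro q q' h
      have h1 : ((k (q.out)⁻¹ : ℤ) : ZMod 3) = (k (q'.out)⁻¹ : ℤ) := h
      rw [← q.out_eq, ← q'.out_eq]
      apply Eq.symm
      apply QuotientGroup.eq.2
      rw [hmem]
      -- `q'⁻¹ * q`
      obtain ⟨x, hx⟩ : ∃ x, x = (q.out)⁻¹ := ⟨_, rfl⟩
      obtain ⟨y, hy⟩ : ∃ y, y = (q'.out)⁻¹ := ⟨_, rfl⟩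
      have hqx : q.out = x⁻¹ := by rw [hx, inv_inv]
      rw [← hy, hqx]
      rw [← hx, ← hy] at h1
      obtain ⟨C2, h2⟩ := inv_el (C x) (τ x)
      obtain ⟨C3, h3⟩ := mul_el (C y) C2 (τ y) (τ x)⁻¹
      refine ⟨C3, τ y * (τ x)⁻¹, ?_, ?_⟩
      · rw [fix_iff]
        intro u
        obtain ⟨u', hu'⟩ : ∃ u', u' = Units.map (((τ x)⁻¹ : F ≃+* F) : F →* F) u := ⟨_, rfl⟩
        have e1 : Units.map ((τ y * (τ x)⁻¹ : F ≃+* F) : F →* F) u = Units.map (τ y : F →* F) u' := by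
          rw [hu']
          apply Units.ext
          rfl
        have e2 : Units.map (τ x : F →* F) u' = u := by
          rw [hu']
          apply Units.ext
          exact (τ x).apply_symm_apply _
        rw [e1, hk, h9 u' _ _ h1.symm, ← hk, e2]
      · show ρ ((y : A) * (x : A)⁻¹) = _
        rw [map_mul, map_inv, hC, hC, h2, h3]
    have hle : ((KK N e P l).subgroupOf (N ⊔ P)).index ≤ 3 := by
      have h1 := Nat.card_le_card_of_injective _ hinj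
      rw [Nat.card_zmod] at h1
      exact h1
    obtain ⟨j, hj⟩ := H624.HT.index_subgroupOf_sup (p := 3) N P hP
    have h2 : ((KK N e P l).subgroupOf (N ⊔ P)).index ∣ 3 ^ j := by
      rw [← hj]
      exact Subgroup.index_dvd_of_le (Subgroup.comap_mono (le_KK N e P l))
    obtain ⟨i, -, hi⟩ := (Nat.dvd_prime_pow Nat.prime_three).1 h2
    rw [hi] at hle ⊢
    have hi1 : i ≤ 1 := by
      by_contra hcon
      have := Nat.pow_le_pow_right (show 0 < 3 by norm_num) (show 2 ≤ i by omega)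
      omega
    exact (pow_dvd_pow 3 hi1).trans (by norm_num)

/-- the case `a ≥ 2` -/
theorem good_of_two (h9 : 9 ∣ Fintype.card F - 1) {M : Ideal AlgInt} (hM : IsPModular 3 M) {A : Type} [Group A]
    [Finite A] (N : Subgroup A) [hNn : N.Normal] (e : N ≃* Matrix.ProjectiveSpecialLinearGroup (Fin 3) F)
    (P : Sylow 3 A) {a : ℕ} (ha : 2 ≤ a) : GoodOn 3 a M N := by
  classical
  have hp : Fact (Nat.Prime 3) := ⟨Nat.prime_three⟩
  have hF : 3 ∣ Fintype.card F - 1 := dvd_trans (by norm_num) h9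
  obtain ⟨l, hl, hl1⟩ := exists_char_nine (F := F) h9
  obtain ⟨hKn, hKi⟩ := KK_facts N e (P : Subgroup A) P.isPGroup' hF hl
  have hNK := le_KK N e (P : Subgroup A) l
  obtain ⟨K, hK⟩ : ∃ K, K = KK N e (P : Subgroup A) l := ⟨_, rfl⟩
  have hKQ : ∀ y ∈ K, ∃ (C : GL (Fin 3) F) (σ : F ≃+* F), H112.HT.act N e y = lift (cj C * fld σ) ∧
      Fix (sv l) σ := by
    intro y hy
    rw [hK] at hy
    obtain ⟨C, τ, h1, h2⟩ := hy.2
    exact ⟨C, τ, h2, h1⟩
  have hKJ : K ≤ N ⊔ (P : Subgroup A) := by rw [hK]; exact inf_le_left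
  rw [← hK] at hKn hKi hNK
  obtain ⟨ξ₁, -, ψ, hψ, hres, hv⟩ := exists_chars_nine hM hF hl hl1 N e K hKQ
  have hLJ : N ⊔ K ≤ N ⊔ (P : Subgroup A) := sup_le le_sup_left hKJ
  have hLK : N ⊔ K = K := sup_eq_right.2 hNK
  have := Fintype.ofFinite ↥(N ⊔ (P : Subgroup A))
  have := Fintype.ofFinite ↥((N ⊔ K).subgroupOf (N ⊔ (P : Subgroup A)))
  let i : (N ⊔ K).subgroupOf (N ⊔ (P : Subgroup A)) ≃* ↥(N ⊔ K) := subgroupOfEquivOfLe hLJ
  have hξ₁ : IsIrrCharacter ((N ⊔ K).subgroupOf (N ⊔ (P : Subgroup A))) ((ξ₁ : ↥(N ⊔ K) → ℂ) ∘ i.toMonoidHom) :=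
    Characters.Core.isIrr_comp i.toMonoidHom i.surjective ξ₁.2
  have hdeg : charDegree ((ξ₁ : ↥(N ⊔ K) → ℂ) ∘ i.toMonoidHom) = charDegree (ψ : N → ℂ) := by
    rw [H681.IP.charDegree_comp]
    unfold charDegree
    rw [← hres 1]
    rfl
  obtain ⟨χ, hχ, hne⟩ := CharDeep.PowerDegrees.exists_irr_over _ hξ₁
  have hnorm : ((N ⊔ K).subgroupOf (N ⊔ (P : Subgroup A))).Normal := by rw [hLK]; exact hKn
  obtain ⟨hd1, hd2⟩ := H596.charDegree_dvd_of_over _ hχ hξ₁ hne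
  rw [hdeg] at hd1 hd2
  have hdiv : 3 ∣ charDegree (ψ : N → ℂ) := Nat.dvd_of_factorization_pos (by rw [hv]; exact one_ne_zero)
  refine H624.HT.goodOn_of hM N P ψ hψ (N ⊔ P) rfl ⟨χ, hχ⟩ ?_ ?_ (Or.inl hdiv) ?_
  · intro _
    let j : N →* (N ⊔ K).subgroupOf (N ⊔ (P : Subgroup A)) :=
      { toFun := fun n => ⟨⟨n, mem_sup_left n.2⟩, mem_subgroupOf.2 (mem_sup_left n.2)⟩
        map_one' := rfl
        map_mul' := fun _ _ => rfl }
    refine Cfsg.Agent.H955.FS.constituent_trans j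
      (Characters.Core.isCharacter_comp ((N ⊔ K).subgroupOf (N ⊔ (P : Subgroup A))).subtype
        (Characters.Core.isIrr_isCharacter hχ)) hξ₁ ψ.2 hne ?_
    have h3 : (fun n : N => ((ξ₁ : ↥(N ⊔ K) → ℂ) ∘ i.toMonoidHom) (j n)) = (ψ : N → ℂ) := funext hres
    rw [h3, Cfsg.Agent.Characters.Core.classInner_irr_self ψ.2]
    exact one_ne_zero
  · have h1 : charDegree χ / charDegree (ψ : N → ℂ) ∣ 3 := by
      rw [hLK] at hd2
      exact hd2.trans hKi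
    obtain ⟨d, hd⟩ := hd1
    have hpos : 0 < charDegree (ψ : N → ℂ) := Cfsg.Agent.Blocks.Basic.charDegree_pos ψ.2
    rw [hd, Nat.mul_div_cancel_left _ hpos] at h1
    have hd0 : d ≠ 0 := by
      rintro rfl
      exact absurd (Nat.eq_zero_of_zero_dvd h1) (by norm_num)
    have h4 : d.factorization 3 ≤ 1 := by
      have h5 := (Nat.factorization_le_iff_dvd hd0 (by norm_num)).2 h1 3
      rwa [Nat.prime_three.factorization_self] at h5
    show (charDegree χ).factorization 3 ≤ a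
    rw [hd, Nat.factorization_mul hpos.ne' hd0, Finsupp.add_apply, hv]
    omega
  · intro h0
    have h4 : charDegree (ψ : N → ℂ) = 1 := by
      rw [h0]
      simp [charDegree]
    rw [h4] at hdiv
    exact absurd (Nat.dvd_one.1 hdiv) (by norm_num)

/-- **The row of `PSL_3(F)`**, `p = 3`, `9 ∣ |F| - 1` -/
theorem psl_nine (F : Type) [Field F] [Fintype F] (h9 : 9 ∣ Fintype.card F - 1) :
    Row 3 (Matrix.ProjectiveSpecialLinearGroup (Fin 3) F) := by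
  intro A _ _ N _ ⟨e⟩ hC M hM P a ha hcd
  have hp : Fact (Nat.Prime 3) := ⟨Nat.prime_three⟩
  have hF : 3 ∣ Fintype.card F - 1 := dvd_trans (by norm_num) h9
  rcases Nat.lt_or_ge 1 a with h1 | h1
  · exact good_of_two h9 hM N e P h1
  · obtain rfl : a = 1 := by omega
    obtain ⟨l, hl, hl1⟩ := exists_char_nine (F := F) h9
    obtain ⟨ξ, -, ψ, h2, h4, h5⟩ := exists_chars_nine hM hF hl hl1 N e (P : Subgroup A) (by
      intro y hy
      obtain ⟨C, σ, r, hy', hσ⟩ := exists_el N e (P : Subgroup A) P.isPGroup' (mem_sup_right hy)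
      refine ⟨C, σ, hy', ?_⟩
      by_contra hfix
      obtain ⟨X, hX, χ, hχ⟩ := nine_le hF hl hl1 N hC e hy' hσ hfix
      obtain ⟨i, hi⟩ := H681.IP.exists_hom P X.subtype X.subtype_injective hX
      have h6 := (H681.IP.TD.of_CD hcd).le Nat.prime_three i hi χ
      omega)
    exact goodOn_of_res hM N P ha ξ ψ h2 h4 h5

end Cfsg.Agent.H279.HT.ThreeRow
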