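import Cfsg.Agent.H279.HT.ThreeRow
import Cfsg.Agent.H688.HT.Three

/-!
# S4933: the field `OddRows.psl_diag` (helper279)
-/

set_option autoImplicit false

open Cfsg
open Cfsg.Agent.H316.HT

namespace Cfsg.Agent.H279.HT

theorem psl_three (F : Type) [Field F] [Fintype F] (h3 : 3 ∣ Fintype.card F - 1) :
    Row 3 (Matrix.ProjectiveSpecialLinearGroup (Fin 3) F) := by
  by_cases h9 : 9 ∣ Fintype.card F - 1
  · exact ThreeRow.psl_nine F h9
  · exact H688.HT.row_psl3 F h3 h9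

/-- **box o.diag, `PSL_n`** -/
theorem psl_diag : ∀ (p : ℕ) [Fact p.Prime] (F : Type) [Field F] [Fintype F] (n : ℕ)
    [IsSimpleGroup (Matrix.ProjectiveSpecialLinearGroup (Fin n) F)], p ≠ 2 → 2 ≤ n → ¬ p ∣ Fintype.card F →
    p ∣ Fintype.card F - 1 → p ∣ n → ¬ H892.HT.Ab p (Matrix.ProjectiveSpecialLinearGroup (Fin n) F) →
    Row p (Matrix.ProjectiveSpecialLinearGroup (Fin n) F) :=
  psl_diag_of fun F _ _ h3 _ => psl_three F h3

end Cfsg.Agent.H279.HT
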