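import Cfsg.Agent.H38.NP.Dim
import Cfsg.Agent.H139.BlockCount
import Cfsg.Agent.H755.Sd.Lin
import Cfsg.Agent.H279.HT.Num

/-!
# S4933, `PSL_n`, `p ∣ q - 1`: the `p`-part of the index of a parabolic subgroup (helper279)
-/

set_option autoImplicit false

namespace Cfsg.Agent.H279.HT.Idx

open Subgroup Matrix
open Cfsg.Agent.H755.Sd Cfsg.Agent.H755.Sd.Par Cfsg.Agent.H279.HT.Num
open scoped MatrixGroups

variable {F : Type*} [Field F] [Fintype F] {p : ℕ} [Fact p.Prime] {n : ℕ}

theorem card_gl_congr {ι : Type*} [Fintype ι] [DecidableEq ι] :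
    Nat.card (GL ι F) = Nat.card (GL (Fin (Fintype.card ι)) F) :=
  Nat.card_congr (Units.mapEquiv
    (Matrix.reindexAlgEquiv F F (Fintype.equivFin ι)).toRingEquiv.toMulEquiv).toEquiv

theorem val_card_gl (hp2 : p ≠ 2) (hF : p ∣ Fintype.card F - 1) (ι : Type*) [Fintype ι] [DecidableEq ι] :
    padicValNat p (Nat.card (GL ι F)) =
      Fintype.card ι * padicValNat p (Fintype.card F - 1) + V p (Fintype.card ι) := by
  rw [card_gl_congr, H38.NP.val_card_GL hp2 hF, V_eq]

theorem not_dvd_card (hF : p ∣ Fintype.card F - 1) : ¬ p ∣ Fintype.card F := by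
  intro h
  have h1 : 1 < Fintype.card F := Fintype.one_lt_card
  have h2 : p ∣ Fintype.card F - (Fintype.card F - 1) := Nat.dvd_sub h hF
  have h3 : Fintype.card F - (Fintype.card F - 1) = 1 := by omega
  rw [h3] at h2
  exact (Fact.out : p.Prime).one_lt.ne' (Nat.dvd_one.1 h2)

theorem padic_prod {ι : Type*} (s : Finset ι) (f : ι → ℕ) (h : ∀ i ∈ s, f i ≠ 0) :
    padicValNat p (∏ i ∈ s, f i) = ∑ i ∈ s, padicValNat p (f i) := by
  classical
  induction s using Finset.induction_on with
  | empty => simp
  | insert a s ha ih =>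
    rw [Finset.prod_insert ha, Finset.sum_insert ha, padicValNat.mul (h a (Finset.mem_insert_self a s)),
      ih fun i hi => h i (Finset.mem_insert_of_mem hi)]
    exact Finset.prod_ne_zero_iff.2 fun i hi => h i (Finset.mem_insert_of_mem hi)

/-- the `p`-part of the index of the block triangular group -/
theorem val_index (hp2 : p ≠ 2) (hF : p ∣ Fintype.card F - 1) (b : Fin n → Fin n) :
    padicValNat p (PB F b).index + ∑ k, V p (Finset.univ.filter fun i => b i = k).card = V p n := by
  classical
  have h1 : Nat.card (PB F b) * (PB F b).index = Nat.card (GL (Fin n) F) := (PB F b).card_mul_index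
  have h2 : Nat.card (PB F b) = Nat.card {g : GL (Fin n) F // (g : Matrix (Fin n) (Fin n) F).BlockTriangular b} := rfl
  rw [h2, H139.BlockCount.card_blockTriangular] at h1
  have h3 := congrArg (padicValNat p) h1
  have hpr : (∏ k : Fin n, Nat.card (GL {i // b i = k} F)) ≠ 0 :=
    Finset.prod_ne_zero_iff.2 fun k _ => Nat.card_pos.ne'
  have hq : Fintype.card F ^ (Finset.univ.filter fun x : Fin n × Fin n => b x.1 < b x.2).card ≠ 0 :=
    pow_ne_zero _ Fintype.card_ne_zero
  have hidx : (PB F b).index ≠ 0 := Subgroup.index_ne_zero_of_finite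
  rw [padicValNat.mul (mul_ne_zero hpr hq) hidx, padicValNat.mul hpr hq, padicValNat.pow,
    padicValNat.eq_zero_of_not_dvd (not_dvd_card hF), mul_zero, add_zero, padic_prod _ _ fun k _ => Nat.card_pos.ne',
    Finset.sum_congr rfl fun k _ => val_card_gl hp2 hF _, Finset.sum_add_distrib, ← Finset.sum_mul,
    val_card_gl hp2 hF, Fintype.card_fin] at h3
  have h4 : ∑ k : Fin n, Fintype.card {i // b i = k} = n := by
    rw [← Fintype.card_sigma]
    exact (Fintype.card_congr (Equiv.sigmaFiberEquiv b)).trans (Fintype.card_fin n)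
  rw [h4] at h3
  have h5 : ∀ k : Fin n, Fintype.card {i // b i = k} = (Finset.univ.filter fun i => b i = k).card := fun k =>
    Fintype.card_subtype _
  simp only [h5] at h3
  omega

/-- the two families of fibres -/
theorem sum_fibres {X : Type*} [Fintype X] [DecidableEq X] (b : Fin n → Fin n) (e : Fin n → X)
    (h : ∀ i j, b i = b j ↔ e i = e j) (g : ℕ → ℕ) (g0 : g 0 = 0) :
    ∑ k, g (Finset.univ.filter fun i => b i = k).card = ∑ v, g (Finset.univ.filter fun i => e i = v).card := by
  classical
  have hb : ∑ k, g (Finset.univ.filter fun i => b i = k).card =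
      ∑ k ∈ Finset.univ.image b, g (Finset.univ.filter fun i => b i = k).card := by
    refine (Finset.sum_subset (Finset.subset_univ _) fun k _ hk => ?_).symm
    rw [Finset.filter_eq_empty_iff.2, Finset.card_empty, g0]
    intro i _ hi
    exact hk (Finset.mem_image.2 ⟨i, Finset.mem_univ _, hi⟩)
  have he : ∑ v, g (Finset.univ.filter fun i => e i = v).card =
      ∑ v ∈ Finset.univ.image e, g (Finset.univ.filter fun i => e i = v).card := by
    refine (Finset.sum_subset (Finset.subset_univ _) fun k _ hk => ?_).symm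
    rw [Finset.filter_eq_empty_iff.2, Finset.card_empty, g0]
    intro i _ hi
    exact hk (Finset.mem_image.2 ⟨i, Finset.mem_univ _, hi⟩)
  rw [hb, he]
  have hch : ∀ k ∈ Finset.univ.image b, ∃ i, b i = k := fun k hk => by
    obtain ⟨i, -, hi⟩ := Finset.mem_image.1 hk
    exact ⟨i, hi⟩
  refine Finset.sum_bij (fun k hk => e (hch k hk).choose) (fun k hk => Finset.mem_image_of_mem _ (Finset.mem_univ _))
    ?_ ?_ ?_
  · intro k hk l hl hkl
    have h1 := (h _ _).2 hkl
    rw [(hch k hk).choose_spec, (hch l hl).choose_spec] at h1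
    exact h1
  · intro v hv
    obtain ⟨i, -, rfl⟩ := Finset.mem_image.1 hv
    have hk : b i ∈ Finset.univ.image b := Finset.mem_image_of_mem _ (Finset.mem_univ _)
    exact ⟨b i, hk, (h _ _).1 (hch _ hk).choose_spec⟩
  · intro k hk
    congr 2
    ext i
    have h1 := (hch k hk).choose_spec
    simp only [Finset.mem_filter, Finset.mem_univ, true_and]
    constructor
    · intro hi
      exact (h _ _).1 (hi.trans h1.symm)
    · intro hi
      exact ((h _ _).2 hi).trans h1

/-- `PS` has the same index -/
theorem index_PS (b : Fin n → Fin n) (hn : 0 < n) : (PS F b).index = (PB F b).index := by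
  -- `|PB : PB ∩ SL| = |GL : SL|`
  set K : Subgroup (GL (Fin n) F) := (Matrix.SpecialLinearGroup.toGL (n := Fin n) (R := F)).range with hK
  have hmem : ∀ g : GL (Fin n) F, g ∈ K ↔ Matrix.GeneralLinearGroup.det g = 1 := by
    intro g
    constructor
    · rintro ⟨x, rfl⟩
      apply Units.ext
      exact x.2
    · intro h
      exact ⟨⟨g, congrArg Units.val h⟩, Units.ext rfl⟩
  have h1 : (PS F b).index = (PB F b).relIndex K := by
    rw [PS, Subgroup.index_comap]
  have hsup : ∀ g : GL (Fin n) F, ∃ x ∈ K, ∃ y ∈ PB F b, g = x * y := by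
    intro g
    let i0 : Fin n := ⟨0, hn⟩
    let d : Fˣ := Matrix.GeneralLinearGroup.det g
    let y : GL (Fin n) F := Syl.dgl (Function.update 1 i0 d)
    have hdet : Matrix.GeneralLinearGroup.det y = d := by
      apply Units.ext
      show ((y : GL (Fin n) F) : Matrix (Fin n) (Fin n) F).det = _
      rw [Syl.coe_dgl, Matrix.det_diagonal, ← Units.coe_prod, Finset.prod_update_of_mem (Finset.mem_univ _)]
      simp
    refine ⟨g * y⁻¹, ?_, y, dgl_mem _, by group⟩
    rw [hmem, map_mul, map_inv, hdet, mul_inv_cancel]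
  rw [h1]
  -- the natural map `K ⧸ (PB ∩ K) → GL ⧸ PB` is a bijection
  apply Nat.card_congr
  refine Equiv.ofBijective (fun x : K ⧸ (PB F b).subgroupOf K => Quotient.liftOn' x
    (fun g => (QuotientGroup.mk (g : GL (Fin n) F) : GL (Fin n) F ⧸ PB F b)) ?_) ⟨?_, ?_⟩
  · intro x y hxy
    rw [QuotientGroup.leftRel_apply] at hxy
    exact QuotientGroup.eq.2 hxy
  · intro x y
    induction x using QuotientGroup.induction_on with | _ x => ?_
    induction y using QuotientGroup.induction_on with | _ y => ?_
    intro hxy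
    have h2 : ((x : GL (Fin n) F))⁻¹ * (y : GL (Fin n) F) ∈ PB F b := QuotientGroup.eq.1 hxy
    exact QuotientGroup.eq.2 h2
  · intro z
    induction z using QuotientGroup.induction_on with | _ g => ?_
    obtain ⟨x, hx, y, hy, rfl⟩ := hsup g
    refine ⟨QuotientGroup.mk ⟨x, hx⟩, ?_⟩
    show (QuotientGroup.mk x : GL (Fin n) F ⧸ PB F b) = QuotientGroup.mk (x * y)
    rw [QuotientGroup.eq]
    simpa using hy

end Cfsg.Agent.H279.HT.Idx
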