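import Cfsg.Agent.H279.HT.Three
import Cfsg.Agent.H624.HT.RowOf

/-!
# S4933: monomial `p`-subgroups of `Aut (PSL_n(F))` with field automorphisms (helper279)

* `deg_ge`  : distinct conjugates of a linear character of a normal subgroup bound a degree from below;
* `E p c σ` : the automorphisms `lift (cj (mon d (c ^ i)) * fld (σ ^ j))`, `d` of `p`-power order; a `p`-group.
-/

set_option autoImplicit false

namespace Cfsg.Agent.H279.HT.Mono

open Cfsg Subgroup Equiv Matrix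
open Cfsg.Agent.ClassicalGeometry.AutPSL.Root Cfsg.Agent.ClassicalGeometry.AutPSL.Auto
open Cfsg.Agent.ClassicalGeometry.AutPSL.Main
open Cfsg.Agent.CpAut.Psl
open Cfsg.Agent.H139.Bruhat
open Cfsg.Agent.H755.Sd Cfsg.Agent.H755.Sd.Par Cfsg.Agent.H755.Sd.Syl
open Cfsg.Agent.H279.HT.PslAut

universe u v

/-- distinct conjugates of a linear character -/
theorem deg_ge {X : Type u} [Group X] [Finite X] (T : Subgroup X) [hT : T.Normal] (μ : T →* ℂˣ) {ι : Type v} [Finite ι]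
    (g : ι → X) (hg : ∀ i j, (∀ t : T, μ ⟨g i * t * (g i)⁻¹, hT.conj_mem _ t.2 _⟩ =
      μ ⟨g j * t * (g j)⁻¹, hT.conj_mem _ t.2 _⟩) → i = j) :
    ∃ χ : IrrCharacter X, Nat.card ι ≤ charDegree (χ : X → ℂ) := by
  classical
  have := Fintype.ofFinite X
  have := Fintype.ofFinite T
  have hμ : IsIrrCharacter T (fun t => (μ t : ℂ)) := CharDeep.LinearChar.isIrrCharacter_of_hom μ
  obtain ⟨χ, hχ, hne⟩ := CharDeep.PowerDegrees.exists_irr_over T hμ
  obtain ⟨S, hS⟩ := H624.HT.exists_stab T (fun t => (μ t : ℂ))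
  have := Fintype.ofFinite S
  have hTS : T ≤ S := by
    intro x hx
    rw [hS]
    intro n
    exact Cfsg.Agent.Characters.Core.isIrr_isClassFunction hμ n ⟨x, hx⟩
  obtain ⟨η, hη, hi, -⟩ := S0854.result T _ hμ S hS hTS χ hχ hne
  refine ⟨⟨χ, hχ⟩, ?_⟩
  show _ ≤ charDegree χ
  rw [H624.HT.charDegree_indFun S hη hχ hi]
  refine le_trans ?_ (Nat.le_mul_of_pos_right _ (Cfsg.Agent.Blocks.Basic.charDegree_pos hη))
  have hf : Function.Injective (fun i : ι => (QuotientGroup.mk (g i)⁻¹ : X ⧸ S)) := by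
    intro i j hij
    have h1 : (g i)⁻¹⁻¹ * (g j)⁻¹ ∈ S := QuotientGroup.eq.1 hij
    rw [inv_inv, hS] at h1
    apply hg
    intro t
    have h2 := h1 ⟨g j * t * (g j)⁻¹, hT.conj_mem _ t.2 _⟩
    have h3 : μ ⟨g i * (g j)⁻¹ * (g j * t * (g j)⁻¹) * (g i * (g j)⁻¹)⁻¹,
        hT.conj_mem _ (hT.conj_mem _ t.2 _) _⟩ = μ ⟨g j * t * (g j)⁻¹, hT.conj_mem _ t.2 _⟩ := Units.ext h2
    rw [← h3]
    congr 1
    apply Subtype.ext
    show g i * t * (g i)⁻¹ = g i * (g j)⁻¹ * (g j * t * (g j)⁻¹) * (g i * (g j)⁻¹)⁻¹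
    group
  have : Finite (X ⧸ S) := inferInstance
  exact Nat.card_le_card_of_injective _ hf

variable {F : Type*} [Field F] {n : ℕ}

theorem fgl_dgl (σ : F ≃+* F) (d : Fin n → Fˣ) : fgl σ (dgl d) = dgl (fun i => Units.map (σ : F →* F) (d i)) := by
  apply Units.ext
  ext i j
  rw [coe_fgl, Matrix.map_apply, coe_dgl, coe_dgl, Matrix.diagonal_apply, Matrix.diagonal_apply]
  split_ifs
  · rfl
  · exact map_zero σ

theorem fgl_permGL (σ : F ≃+* F) (π : Perm (Fin n)) : fgl σ (permGL F n π) = permGL F n π := by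
  apply Units.ext
  ext i j
  rw [coe_fgl, Matrix.map_apply, permGL_apply]
  split_ifs
  · exact map_one σ
  · exact map_zero σ

theorem fgl_mon (σ : F ≃+* F) (d : Fin n → Fˣ) (π : Perm (Fin n)) :
    fgl σ (mon d π) = mon (fun i => Units.map (σ : F →* F) (d i)) π := by
  unfold mon
  rw [map_mul, fgl_dgl, fgl_permGL]

/-- the element -/
noncomputable def el (d : Fin n → Fˣ) (π : Perm (Fin n)) (τ : F ≃+* F) :
    MulAut (Matrix.ProjectiveSpecialLinearGroup (Fin n) F) := lift (cj (mon d π) * fld τ)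

theorem el_mul (d d' : Fin n → Fˣ) (π π' : Perm (Fin n)) (τ τ' : F ≃+* F) :
    el d π τ * el d' π' τ' = el (fun i => d i * Units.map (τ : F →* F) (d' (π⁻¹ i))) (π * π') (τ * τ') := by
  unfold el
  rw [← map_mul, cjfld_mul, fgl_mon, mon_mul]

theorem el_one : el (F := F) (n := n) 1 1 1 = 1 := by
  unfold el
  rw [map_one fld, mul_one]
  have : mon (F := F) (n := n) 1 1 = 1 := mon_one
  rw [this, map_one, map_one]

/-- the diagonal automorphisms -/
noncomputable def dg (d : Fin n → Fˣ) : MulAut (Matrix.ProjectiveSpecialLinearGroup (Fin n) F) := lift (cj (dgl d))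

theorem dg_eq (d : Fin n → Fˣ) : dg (F := F) d = el d 1 1 := by
  unfold dg el
  rw [map_one fld, mul_one, TD.mon_one_right]

theorem dg_mul (d d' : Fin n → Fˣ) : dg (F := F) (d * d') = dg d * dg d' := by
  unfold dg
  rw [map_mul, map_mul, map_mul]

theorem dg_one : dg (F := F) (n := n) 1 = 1 := by
  unfold dg
  rw [map_one, map_one, map_one]

theorem dg_pow (d : Fin n → Fˣ) (k : ℕ) : dg (F := F) (d ^ k) = dg d ^ k := by
  unfold dg
  rw [map_pow, map_pow, map_pow]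

/-- the conjugation formula -/
theorem el_conj (d t : Fin n → Fˣ) (π : Perm (Fin n)) (τ : F ≃+* F) :
    el d π τ * dg t * (el d π τ)⁻¹ = dg (fun i => Units.map (τ : F →* F) (t (π⁻¹ i))) := by
  rw [mul_inv_eq_iff_eq_mul, dg_eq, dg_eq, el_mul, el_mul]
  congr 1
  · funext i
    rw [mul_comm]
    congr 1

variable [Finite F] (p : ℕ) [hp : Fact p.Prime] (c : Perm (Fin n)) (σ : F ≃+* F)

/-- of `p`-power order -/
def Pow (d : Fin n → Fˣ) : Prop := ∃ k : ℕ, d ^ p ^ k = 1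

omit [Finite F] hp in
theorem Pow.one : Pow p (1 : Fin n → Fˣ) := ⟨0, one_pow _⟩

omit [Finite F] hp in
variable {p} in
theorem Pow.mul {d d' : Fin n → Fˣ} (h : Pow p d) (h' : Pow p d') (π : Perm (Fin n)) (τ : F ≃+* F) :
    Pow p (fun i => d i * Units.map (τ : F →* F) (d' (π i))) := by
  obtain ⟨k, hk⟩ := h
  obtain ⟨l, hl⟩ := h'
  refine ⟨k + l, funext fun i => ?_⟩
  have h1 := congrFun hk i
  have h2 := congrFun hl (π i)
  rw [Pi.pow_apply, Pi.one_apply] at h1 h2 ⊢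
  rw [mul_pow, pow_add, pow_mul, h1, one_pow, one_mul, mul_comm (p ^ k), pow_mul, ← map_pow, h2, map_one, one_pow]

omit [Finite F] hp in
variable {p} in
theorem Pow.map {d : Fin n → Fˣ} (h : Pow p d) (π : Perm (Fin n)) (τ : F ≃+* F) :
    Pow p (fun i => Units.map (τ : F →* F) (d (π i))) := by
  obtain ⟨k, hk⟩ := h
  refine ⟨k, funext fun i => ?_⟩
  have h1 := congrFun hk (π i)
  rw [Pi.pow_apply, Pi.one_apply] at h1 ⊢
  rw [← map_pow, h1, map_one]

/-- the monoid -/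
def ESub : Submonoid (MulAut (Matrix.ProjectiveSpecialLinearGroup (Fin n) F)) where
  carrier := {α | ∃ (i j : ℕ) (d : Fin n → Fˣ), Pow p d ∧ α = el d (c ^ i) (σ ^ j)}
  one_mem' := ⟨0, 0, 1, Pow.one p, by rw [pow_zero, pow_zero, el_one]⟩
  mul_mem' := by
    rintro _ _ ⟨i, j, d, hd, rfl⟩ ⟨i', j', d', hd', rfl⟩
    refine ⟨i + i', j + j', _, hd.mul hd' (c ^ i)⁻¹ (σ ^ j), ?_⟩
    rw [el_mul, pow_add, pow_add]

/-- the group -/
def E : Subgroup (MulAut (Matrix.ProjectiveSpecialLinearGroup (Fin n) F)) where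
  carrier := ESub p c σ
  one_mem' := one_mem (ESub p c σ)
  mul_mem' := mul_mem
  inv_mem' := by
    intro x hx
    have h1 : x⁻¹ = x ^ (orderOf x - 1) := by
      rw [inv_eq_iff_mul_eq_one, ← pow_succ', Nat.sub_add_cancel (orderOf_pos x), pow_orderOf_eq_one]
    rw [h1]
    exact pow_mem hx _

omit hp in
theorem mem_E {α : MulAut (Matrix.ProjectiveSpecialLinearGroup (Fin n) F)} :
    α ∈ E p c σ ↔ ∃ (i j : ℕ) (d : Fin n → Fˣ), Pow p d ∧ α = el d (c ^ i) (σ ^ j) := Iff.rfl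

omit [Finite F] hp in
theorem el_pow {d : Fin n → Fˣ} (hd : Pow p d) (π : Perm (Fin n)) (τ : F ≃+* F) (k : ℕ) :
    ∃ d', Pow p d' ∧ el d π τ ^ k = el d' (π ^ k) (τ ^ k) := by
  induction k with
  | zero => exact ⟨1, Pow.one p, by rw [pow_zero, pow_zero, pow_zero, el_one]⟩
  | succ k ih =>
    obtain ⟨d', hd', h⟩ := ih
    refine ⟨_, hd'.mul hd (π ^ k)⁻¹ (τ ^ k), ?_⟩
    rw [pow_succ, h, el_mul, ← pow_succ, ← pow_succ]

omit hp in
theorem E_pow {α : MulAut (Matrix.ProjectiveSpecialLinearGroup (Fin n) F)} (hα : α ∈ E p c σ) {a b : ℕ}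
    (hc : c ^ p ^ a = 1) (hσ : σ ^ p ^ b = 1) : ∃ k : ℕ, α ^ p ^ k = 1 := by
  obtain ⟨i, j, d, hd, rfl⟩ := hα
  obtain ⟨d', ⟨l, hl⟩, h⟩ := el_pow p hd (c ^ i) (σ ^ j) (p ^ (a + b))
  refine ⟨a + b + l, ?_⟩
  have h1 : (c ^ i) ^ p ^ (a + b) = 1 := by
    rw [← pow_mul, mul_comm, pow_mul, pow_add, pow_mul, hc, one_pow, one_pow]
  have h2 : (σ ^ j) ^ p ^ (a + b) = 1 := by
    rw [← pow_mul, mul_comm, pow_mul, pow_add, mul_comm, pow_mul, hσ, one_pow, one_pow]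
  rw [h1, h2, ← dg_eq] at h
  rw [pow_add, pow_mul, h, ← dg_pow, hl, dg_one]

end Cfsg.Agent.H279.HT.Mono
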