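import Cfsg.Agent.CpAut.Psl
import Cfsg.Agent.H755.Sd.Lin

/-!
# S4933, `PSL_n`, `p ∣ q - 1`: the linear character of the stabiliser of a flag in `PΓL_n` (helper279)

* `QP b s` : the automorphisms `lift (cj g * fld σ)` of `PSL_n(F)`, `g` block triangular, `σ` fixing the characters `s`;
* `LamA`   : its linear character `∏ s_k (det of the k-th block)`.
-/

set_option autoImplicit false

namespace Cfsg.Agent.H279.HT.PslAut

open Subgroup Equiv Matrix
open Cfsg.Agent.ClassicalGeometry.AutPSL.Root Cfsg.Agent.ClassicalGeometry.AutPSL.Auto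
open Cfsg.Agent.ClassicalGeometry.AutPSL.Main
open Cfsg.Agent.CpAut.Psl
open Cfsg.Agent.H755.Sd Cfsg.Agent.H755.Sd.Par Cfsg.Agent.H755.Sd.Syl
open scoped MatrixGroups

variable {F : Type*} [Field F] {n : ℕ} {b : Fin n → Fin n} {s : Fin n → (Fˣ →* ℂˣ)}

/-- the field automorphism `σ` fixes the characters `s` -/
def Fix (s : Fin n → (Fˣ →* ℂˣ)) (σ : F ≃+* F) : Prop := ∀ i (x : Fˣ), s i (Units.map (σ : F →* F) x) = s i x

theorem Fix.one : Fix s (1 : F ≃+* F) := fun i x => by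
  congr 1

theorem Fix.mul {σ τ : F ≃+* F} (h : Fix s σ) (h' : Fix s τ) : Fix s (σ * τ) := fun i x => by
  have e : Units.map ((σ * τ : F ≃+* F) : F →* F) x = Units.map (σ : F →* F) (Units.map (τ : F →* F) x) := by
    apply Units.ext
    rfl
  rw [e, h, h']

theorem Fix.inv {σ : F ≃+* F} (h : Fix s σ) : Fix s σ⁻¹ := fun i x => by
  have e : Units.map (σ : F →* F) (Units.map ((σ⁻¹ : F ≃+* F) : F →* F) x) = x := by
    apply Units.ext
    exact σ.apply_symm_apply _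
  rw [← h, e]

theorem fgl_mem {σ : F ≃+* F} {g : GL (Fin n) F} (hg : g ∈ PB F b) : fgl σ g ∈ PB F b := by
  rw [mem_PB] at hg ⊢
  intro i j hij
  rw [coe_fgl, Matrix.map_apply, hg hij, map_zero]

theorem Dk_fgl (σ : F ≃+* F) (g : PB F b) (k : Fin n) :
    Dk k (⟨fgl σ (g : GL (Fin n) F), fgl_mem g.2⟩ : PB F b) = Units.map (σ : F →* F) (Dk k g) := by
  apply Units.ext
  rw [coe_Dk, Units.coe_map, coe_Dk]
  exact (RingEquiv.map_det σ _).symm

theorem Lam_fgl {σ : F ≃+* F} (h : Fix s σ) (g : PB F b) :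
    Lam s (⟨fgl σ (g : GL (Fin n) F), fgl_mem g.2⟩ : PB F b) = Lam s g := by
  rw [Lam_apply, Lam_apply]
  refine Finset.prod_congr rfl fun k _ => ?_
  rw [Dk_fgl, h]

/-- the conditions on the characters -/
structure Hyp (b : Fin n → Fin n) (s : Fin n → (Fˣ →* ℂˣ)) : Prop where
  hs : ∀ i, s (b i) = s i
  hp : ∀ c : Fˣ, ∏ i, s i c = 1

theorem Lam_scalar [Nonempty (Fin n)] (H : Hyp b s) {g : GL (Fin n) F} (hg : g ∈ PB F b) {r : F}
    (hr : scalar (Fin n) r = (g : Matrix (Fin n) (Fin n) F)) : Lam s (⟨g, hg⟩ : PB F b) = 1 := by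
  have hr0 := scalar_ne_zero hr
  have e : g = dgl (fun _ => Units.mk0 r hr0) := by
    apply Units.ext
    rw [← hr, coe_dgl]
    rfl
  subst e
  rw [Lam_dgl H.hs]
  exact H.hp _

theorem Lam_eq [Nontrivial (Fin n)] (H : Hyp b s) {g g' : GL (Fin n) F} (hg : g ∈ PB F b) (hg' : g' ∈ PB F b)
    {σ τ : F ≃+* F} (h : lift (cj g * fld σ) = lift (cj g' * fld τ)) :
    Lam s (⟨g, hg⟩ : PB F b) = Lam s (⟨g', hg'⟩ : PB F b) := by
  have h1 : lift (cj (g'⁻¹ * g) * fld σ) = lift (fld τ) := by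
    rw [map_mul cj, mul_assoc, map_mul lift, h, ← map_mul lift, map_inv, inv_mul_cancel_left]
  obtain ⟨⟨r, hr⟩, -⟩ := injective_aux h1
  have h2 := Lam_scalar H (mul_mem (inv_mem hg') hg) hr
  have h3 : (⟨g'⁻¹ * g, mul_mem (inv_mem hg') hg⟩ : PB F b) = ⟨g', hg'⟩⁻¹ * ⟨g, hg⟩ := rfl
  rw [h3, map_mul, map_inv, inv_mul_eq_one] at h2
  exact h2.symm

/-- the stabiliser -/
def QP (b : Fin n → Fin n) (s : Fin n → (Fˣ →* ℂˣ)) :
    Subgroup (MulAut (Matrix.ProjectiveSpecialLinearGroup (Fin n) F)) where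
  carrier := {α | ∃ g ∈ PB F b, ∃ σ : F ≃+* F, Fix s σ ∧ α = lift (cj g * fld σ)}
  one_mem' := ⟨1, one_mem _, 1, Fix.one, by rw [map_one, map_one, one_mul, map_one]⟩
  mul_mem' := by
    rintro _ _ ⟨A, hA, σ, hσ, rfl⟩ ⟨B, hB, τ, hτ, rfl⟩
    exact ⟨A * fgl σ B, mul_mem hA (fgl_mem hB), σ * τ, hσ.mul hτ, by rw [← map_mul, cjfld_mul]⟩
  inv_mem' := by
    rintro _ ⟨A, hA, σ, hσ, rfl⟩
    refine ⟨(fgl σ⁻¹ A)⁻¹, inv_mem (fgl_mem hA), σ⁻¹, hσ.inv, ?_⟩
    rw [inv_eq_iff_mul_eq_one, ← map_mul, cjfld_mul, mul_inv_cancel, map_inv]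
    have h1 : fgl σ (fgl σ⁻¹ A) = A := by
      apply Units.ext
      ext i j
      exact σ.apply_symm_apply _
    rw [h1, mul_inv_cancel, map_one, map_one, one_mul, map_one]

/-- a block triangular representative -/
noncomputable def rp (α : QP b s) : PB F b := ⟨α.2.choose, α.2.choose_spec.1⟩

theorem rp_spec (α : QP b s) : ∃ σ : F ≃+* F, Fix s σ ∧ (α : MulAut _) = lift (cj (rp α : GL (Fin n) F) * fld σ) :=
  α.2.choose_spec.2

/-- the linear character -/
noncomputable def LamA [Nontrivial (Fin n)] (H : Hyp b s) : QP b s →* ℂˣ where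
  toFun α := Lam s (rp α)
  map_one' := by
    obtain ⟨σ, -, h⟩ := rp_spec (1 : QP b s)
    have h1 : lift (cj (rp (1 : QP b s) : GL (Fin n) F) * fld σ) = lift (cj 1 * fld (1 : F ≃+* F)) := by
      rw [← h, map_one, map_one, one_mul, map_one]; rfl
    have h2 := Lam_eq H (rp (1 : QP b s)).2 (one_mem (PB F b)) h1
    exact h2.trans (map_one _)
  map_mul' α β := by
    obtain ⟨σ, hσ, h1⟩ := rp_spec α
    obtain ⟨τ, hτ, h2⟩ := rp_spec β
    obtain ⟨ρ, hρ, h3⟩ := rp_spec (α * β)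
    have h4 : lift (cj (rp (α * β) : GL (Fin n) F) * fld ρ) =
        lift (cj ((rp α : GL (Fin n) F) * fgl σ (rp β : GL (Fin n) F)) * fld (σ * τ)) := by
      rw [← h3, ← cjfld_mul, map_mul, ← h1, ← h2]; rfl
    have h5 := Lam_eq H (rp (α * β)).2 (mul_mem (rp α).2 (fgl_mem (σ := σ) (rp β).2)) h4
    refine h5.trans ?_
    have h6 : (⟨(rp α : GL (Fin n) F) * fgl σ (rp β : GL (Fin n) F), mul_mem (rp α).2 (fgl_mem (σ := σ) (rp β).2)⟩ :
        PB F b) = rp α * ⟨fgl σ (rp β : GL (Fin n) F), fgl_mem (rp β).2⟩ := rfl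
    rw [h6, map_mul, Lam_fgl hσ]

theorem LamA_apply [Nontrivial (Fin n)] (H : Hyp b s) {α : QP b s} {g : GL (Fin n) F} (hg : g ∈ PB F b)
    {σ : F ≃+* F} (h : (α : MulAut _) = lift (cj g * fld σ)) : LamA H α = Lam s (⟨g, hg⟩ : PB F b) := by
  obtain ⟨τ, -, h1⟩ := rp_spec α
  exact Lam_eq H (rp α).2 hg (h1.symm.trans h)

/-- an inner automorphism is in `QP` only if it comes from a block triangular matrix -/
theorem mem_of_conj [Nontrivial (Fin n)] {g : GL (Fin n) F} (h : lift (cj g) ∈ QP b s) : g ∈ PB F b := by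
  obtain ⟨A, hA, σ, hσ, h1⟩ := h
  have h2 : lift (cj (A⁻¹ * g) * fld (1 : F ≃+* F)) = lift (fld σ) := by
    rw [map_one, mul_one, map_mul cj, map_mul lift, h1, ← map_mul lift, map_inv, inv_mul_cancel_left]
  obtain ⟨⟨r, hr⟩, -⟩ := injective_aux h2
  have hr0 := scalar_ne_zero hr
  have e : A⁻¹ * g = dgl (fun _ => Units.mk0 r hr0) := by
    apply Units.ext
    rw [← hr, coe_dgl]
    rfl
  rw [show g = A * (A⁻¹ * g) by group, e]
  exact mul_mem hA (dgl_mem _)

/-- every `lift (cj A * fld σ)` is in `Inn * QP` -/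
theorem exists_mul_mem (hn : 0 < n) {A : GL (Fin n) F} {σ : F ≃+* F} (hσ : Fix s σ) :
    ∃ x : Matrix.SpecialLinearGroup (Fin n) F, lift (cj (Matrix.SpecialLinearGroup.toGL x)) * lift (cj A * fld σ) ∈
      QP b s := by
  let i0 : Fin n := ⟨0, hn⟩
  let d : Fˣ := Matrix.GeneralLinearGroup.det A
  let g : GL (Fin n) F := dgl (Function.update 1 i0 d)
  have hdet : Matrix.GeneralLinearGroup.det g = d := by
    apply Units.ext
    show ((g : GL (Fin n) F) : Matrix (Fin n) (Fin n) F).det = _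
    rw [coe_dgl, Matrix.det_diagonal, ← Units.coe_prod, Finset.prod_update_of_mem (Finset.mem_univ _)]
    simp
  have hdet2 : ((g * A⁻¹ : GL (Fin n) F) : Matrix (Fin n) (Fin n) F).det = 1 := by
    have h1 : Matrix.GeneralLinearGroup.det (g * A⁻¹) = 1 := by
      rw [map_mul, map_inv, hdet, mul_inv_cancel]
    exact congrArg Units.val h1
  refine ⟨⟨_, hdet2⟩, g, dgl_mem _, σ, hσ, ?_⟩
  have h1 : Matrix.SpecialLinearGroup.toGL (⟨_, hdet2⟩ : Matrix.SpecialLinearGroup (Fin n) F) = g * A⁻¹ := by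
    apply Units.ext
    rfl
  rw [h1, ← map_mul, ← mul_assoc, ← map_mul cj, inv_mul_cancel_right]

/-! ### field automorphisms of `p`-power order -/

/-- **A field automorphism of `p`-power order fixes the characters of order `p`**, `p ∣ q - 1`. -/
theorem fix_of_pow [Finite F] {p : ℕ} [hp : Fact p.Prime] (hq : p ∣ Nat.card F - 1)
    (hs : ∀ i x, s i x ^ p = 1) {σ : F ≃+* F} {c : ℕ} (hσ : σ ^ p ^ c = 1) : Fix s σ := by
  have := Fintype.ofFinite F
  let f : Fˣ →* Fˣ := Units.map (σ : F →* F)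
  obtain ⟨m, hm⟩ := MonoidHom.map_cyclic f
  have hiter : ∀ (k : ℕ) (x : Fˣ), Units.map ((σ ^ k : F ≃+* F) : F →* F) x = x ^ (m ^ k) := by
    intro k
    induction k with
    | zero => intro x; apply Units.ext; simp
    | succ k ih =>
      intro x
      have e : Units.map ((σ ^ (k + 1) : F ≃+* F) : F →* F) x = Units.map ((σ ^ k : F ≃+* F) : F →* F) (f x) := by
        apply Units.ext
        rw [pow_succ]
        rfl
      rw [e, ih, hm, ← _root_.zpow_mul, pow_succ', mul_comm]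
  obtain ⟨g, hg⟩ := IsCyclic.exists_generator (α := Fˣ)
  have hord : orderOf g = Nat.card F - 1 := by
    rw [orderOf_eq_card_of_forall_mem_zpowers hg, Nat.card_units]
  have h1 : g ^ (m ^ p ^ c) = g := by
    rw [← hiter, hσ]
    apply Units.ext
    rfl
  have h2 : ((Nat.card F - 1 : ℕ) : ℤ) ∣ m ^ p ^ c - 1 := by
    rw [← hord]
    rw [orderOf_dvd_iff_zpow_eq_one, _root_.zpow_sub, h1, _root_.zpow_one, mul_inv_cancel]
  have h3 : (p : ℤ) ∣ m ^ p ^ c - 1 := (Int.natCast_dvd_natCast.2 hq).trans h2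
  have h4 : (p : ℤ) ∣ m - 1 := by
    rw [← ZMod.intCast_zmod_eq_zero_iff_dvd] at h3 ⊢
    push_cast at h3 ⊢
    rwa [ZMod.pow_card_pow] at h3
  intro i x
  obtain ⟨k, hk⟩ := h4
  have h5 : Units.map (σ : F →* F) x = x * (x ^ k) ^ (p : ℤ) := by
    have h6 : f x = x ^ m := hm x
    show f x = _
    rw [h6, ← _root_.zpow_mul, mul_comm k, ← hk, _root_.zpow_sub, _root_.zpow_one, mul_comm x, inv_mul_cancel_right]
  rw [h5, map_mul]
  have h7 : s i ((x ^ k) ^ (p : ℤ)) = 1 := by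
    rw [_root_.zpow_natCast, map_pow, hs i]
  rw [h7, mul_one]

end Cfsg.Agent.H279.HT.PslAut
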