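import Cfsg.Agent.H755.Sd.Lin
import Cfsg.Agent.H279.HT.Num

/-!
# S4933, `PSL_n`, `p ∣ q - 1`: the characters `s_i = λ ^ e_i` (helper279)
-/

set_option autoImplicit false

namespace Cfsg.Agent.H279.HT.PslChar

open Subgroup Equiv Matrix
open Cfsg.Agent.H279.HT.Num Cfsg.Agent.H755.Sd

variable {F : Type*} [Field F] {p : ℕ} [hp : Fact p.Prime] {n : ℕ}

/-- a character of order `p` -/
theorem exists_char [Fintype F] (hF : p ∣ Fintype.card F - 1) :
    ∃ l : Fˣ →* ℂˣ, (∀ x, l x ^ p = 1) ∧ ∃ x, l x ≠ 1 := by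
  obtain ⟨g, hg⟩ := IsCyclic.exists_generator (α := Fˣ)
  have hord : orderOf g = Fintype.card F - 1 := by
    rw [orderOf_eq_card_of_forall_mem_zpowers hg, Nat.card_units, Nat.card_eq_fintype_card]
  have hζ := Complex.isPrimitiveRoot_exp p hp.out.ne_zero
  obtain ⟨z, hz⟩ : ∃ z : ℂˣ, (z : ℂ) = Complex.exp (2 * Real.pi * Complex.I / p) :=
    ⟨Units.mk0 _ (Complex.exp_ne_zero _), rfl⟩
  rw [← hz] at hζ
  have hz1 : orderOf z = p := by
    rw [← orderOf_units]
    exact hζ.eq_orderOf.symm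
  have hzp : z ^ p = 1 := by rw [← hz1]; exact pow_orderOf_eq_one z
  refine ⟨monoidHomOfForallMemZpowers hg (g' := z) (by rw [hz1, hord]; exact hF), ?_, g, ?_⟩
  · intro x
    obtain ⟨k, hk⟩ := Subgroup.mem_zpowers_iff.1 (hg x)
    rw [← hk, map_zpow, monoidHomOfForallMemZpowers_apply_gen, ← _root_.zpow_natCast, ← _root_.zpow_mul, mul_comm,
      _root_.zpow_mul, _root_.zpow_natCast, hzp, _root_.one_zpow]
  · intro h
    rw [monoidHomOfForallMemZpowers_apply_gen] at h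
    rw [h, orderOf_one] at hz1
    exact hp.out.one_lt.ne hz1

/-- `λ ^ v`, `v ∈ Z/p` -/
def ch (l : Fˣ →* ℂˣ) (v : ZMod p) : Fˣ →* ℂˣ := (powMonoidHom v.val).comp l

theorem ch_apply (l : Fˣ →* ℂˣ) (v : ZMod p) (x : Fˣ) : ch l v x = l x ^ v.val := rfl

theorem ch_add {l : Fˣ →* ℂˣ} (hl : ∀ x, l x ^ p = 1) (v w : ZMod p) : ch l (v + w) = ch l v * ch l w := by
  ext1 x
  rw [MonoidHom.mul_apply, ch_apply, ch_apply, ch_apply, ZMod.val_add, ← pow_add]
  conv_rhs => rw [← Nat.mod_add_div (v.val + w.val) p, pow_add, pow_mul, hl, one_pow, mul_one]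

theorem ch_zero (l : Fˣ →* ℂˣ) : ch l (0 : ZMod p) = 1 := by
  ext1 x
  rw [ch_apply, ZMod.val_zero, pow_zero, MonoidHom.one_apply]

theorem ch_pow {l : Fˣ →* ℂˣ} (hl : ∀ x, l x ^ p = 1) (v : ZMod p) (x : Fˣ) : ch l v x ^ p = 1 := by
  rw [ch_apply, ← pow_mul, mul_comm, pow_mul, hl, one_pow]

theorem ch_sum {l : Fˣ →* ℂˣ} (hl : ∀ x, l x ^ p = 1) {ι : Type*} (s : Finset ι) (f : ι → ZMod p) (x : Fˣ) :
    ∏ i ∈ s, ch l (f i) x = ch l (∑ i ∈ s, f i) x := by
  classical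
  induction s using Finset.induction_on with
  | empty => rw [Finset.prod_empty, Finset.sum_empty, ch_zero, MonoidHom.one_apply]
  | insert a s ha ih => rw [Finset.prod_insert ha, Finset.sum_insert ha, ch_add hl, MonoidHom.mul_apply, ih]

theorem ch_inj {l : Fˣ →* ℂˣ} (hl : ∀ x, l x ^ p = 1) (hl1 : ∃ x, l x ≠ 1) {v w : ZMod p} (h : ch l v = ch l w) :
    v = w := by
  obtain ⟨x, hx⟩ := hl1
  have h1 : orderOf (l x) = p := orderOf_eq_prime (hl x) hx
  have h2 := congrArg (fun f : Fˣ →* ℂˣ => f x) h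
  simp only [ch_apply] at h2
  have h3 := pow_injOn_Iio_orderOf (x := l x) (show v.val ∈ Set.Iio (orderOf (l x)) from h1 ▸ ZMod.val_lt v)
    (show w.val ∈ Set.Iio (orderOf (l x)) from h1 ▸ ZMod.val_lt w) h2
  exact ZMod.val_injective p h3

/-- **Mackey's criterion** in terms of the labels -/
theorem lab_eq {l : Fˣ →* ℂˣ} (hl : ∀ x, l x ^ p = 1) (hl1 : ∃ x, l x ≠ 1) {e : Fin n → ZMod p} (he : Lab p n e) (hn : 0 < n)
    {σ : Perm (Fin n)}
    (h : ∀ t : Fin n → Fˣ, ∏ i, t i = 1 → ∏ i, ch l (e i) (t i) = ∏ i, ch l (e i) (t (σ i))) (i : Fin n) :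
    e (σ i) = e i := by
  have h1 : ∀ t : Fin n → Fˣ, ∏ i, t i = 1 → ∏ i, ch l (e (σ⁻¹ i)) (t i) = ∏ i, ch l (e i) (t i) := by
    intro t ht
    rw [h t ht, ← Equiv.prod_comp σ⁻¹ (fun i => ch l (e i) (t (σ i)))]
    refine Finset.prod_congr rfl fun i _ => ?_
    rw [show σ (σ⁻¹ i) = i from σ.apply_symm_apply i]
  let i0 : Fin n := ⟨0, hn⟩
  have h2 := TD.semi_of_prod i0 (r := fun i => ch l (e (σ⁻¹ i))) (r' := fun i => ch l (e i)) h1
  obtain ⟨c, hc⟩ : ∃ c : ZMod p, c = e (σ⁻¹ i0) - e i0 := ⟨_, rfl⟩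
  have h3 : ∀ j, e (σ⁻¹ j) = e j + c := by
    intro j
    apply ch_inj hl hl1
    have h4 : ch l (e (σ⁻¹ i0)) = ch l c * ch l (e i0) := by rw [← ch_add hl, hc, sub_add_cancel]
    rw [h2 j, ch_add hl, h4]
    ext1 x
    rw [MonoidHom.mul_apply, MonoidHom.mul_apply, MonoidHom.mul_apply, MonoidHom.mul_apply, MonoidHom.inv_apply,
      mul_inv_cancel_right, mul_comm]
  by_cases hc0 : c = 0
  · have h4 := h3 (σ i)
    rw [show σ⁻¹ (σ i) = i from σ.symm_apply_apply i, hc0, add_zero] at h4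
    exact h4.symm
  · exfalso
    obtain ⟨v, w, hvw⟩ := he.ne
    apply hvw
    have h5 : ∀ v : ZMod p, (Finset.univ.filter fun i => e i = v).card =
        (Finset.univ.filter fun i => e i = v + c).card := by
      intro v
      refine Finset.card_bij (fun i _ => σ⁻¹ i) ?_ ?_ ?_
      · intro j hj
        rw [Finset.mem_filter] at hj ⊢
        exact ⟨Finset.mem_univ _, by rw [h3, hj.2]⟩
      · intro j _ k _ hjk
        exact σ⁻¹.injective hjk
      · intro j hj
        refine ⟨σ j, ?_, σ.symm_apply_apply j⟩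
        rw [Finset.mem_filter] at hj ⊢
        refine ⟨Finset.mem_univ _, ?_⟩
        have h6 := h3 (σ j)
        rw [show σ⁻¹ (σ j) = j from σ.symm_apply_apply j, hj.2] at h6
        exact (add_right_cancel h6).symm
    have h7 : ∀ (k : ℕ) (v : ZMod p), (Finset.univ.filter fun i => e i = v).card =
        (Finset.univ.filter fun i => e i = v + k * c).card := by
      intro k
      induction k with
      | zero => intro v; simp
      | succ k ih =>
        intro v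
        rw [ih v, h5 (v + k * c)]
        push_cast
        rw [add_mul, one_mul, add_assoc]
    have h8 := h7 ((w - v) * c⁻¹).val v
    rw [ZMod.natCast_val, ZMod.cast_id, mul_assoc, inv_mul_cancel₀ hc0, mul_one, add_sub_cancel] at h8
    exact h8

end Cfsg.Agent.H279.HT.PslChar
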