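import Cfsg.Agent.H279.HT.PslAut
import Cfsg.Agent.H279.HT.PslChar
import Cfsg.Agent.H279.HT.Idx
import Cfsg.Agent.H279.HT.Ind
import Cfsg.Agent.H112.HT.Glue

/-!
# S4933, `PSL_n(F)`, `p` odd, `p ∣ |F| - 1`, `n ≥ p`, `(n, p) ≠ (3, 3)` (helper279)

`exists_chars` : `N ⊴ A`, `N ≃* PSL_n(F)`, `P` a `p`-subgroup of `A`: there are `ξ ∈ B₀(N P)`, `ψ = ξ|_N ∈ B₀(N)`
irreducible with `v_p (ψ(1)) = 1`.
-/

set_option autoImplicit false

namespace Cfsg.Agent.H279.HT.PslRow

open Cfsg Subgroup Equiv Matrix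
open Cfsg.Agent.ClassicalGeometry.AutPSL.Root Cfsg.Agent.ClassicalGeometry.AutPSL.Auto
open Cfsg.Agent.ClassicalGeometry.AutPSL.Main
open Cfsg.Agent.CpAut.Psl
open Cfsg.Agent.H755.Sd Cfsg.Agent.H755.Sd.Par Cfsg.Agent.H755.Sd.Syl
open Cfsg.Agent.H279.HT.Num Cfsg.Agent.H279.HT.PslChar Cfsg.Agent.H279.HT.PslAut
open Cfsg.Agent.H316.HT

universe u

theorem conj_pr {F : Type*} [Field F] {n : ℕ} (x : Matrix.SpecialLinearGroup (Fin n) F) :
    MulAut.conj (pr x) = lift (cj (Matrix.SpecialLinearGroup.toGL x)) := by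
  apply MulEquiv.ext
  intro y
  obtain ⟨z, rfl⟩ := pr_surjective y
  rw [MulAut.conj_apply, lift_pr, ← map_mul, ← map_inv, ← map_mul]
  congr 1

variable {F : Type} [Field F] [Fintype F] {p : ℕ} [hp : Fact p.Prime] {n : ℕ} {M : Ideal AlgInt}

/-- automorphisms of `p`-power order -/
theorem exists_of_pow (hn : 2 ≤ n) (hp2 : p ≠ 2) {k : ℕ} {α : MulAut (Matrix.ProjectiveSpecialLinearGroup (Fin n) F)}
    (hα : α ^ p ^ k = 1) : ∃ (A : GL (Fin n) F) (σ : F ≃+* F), α = lift (cj A * fld σ) ∧ σ ^ p ^ k = 1 := by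
  have : Nontrivial (Fin n) := Fin.nontrivial_iff_two_le.2 hn
  obtain ⟨A, σ, h⟩ := exists_of_odd hn ((hp.out.odd_of_ne_two hp2).pow (n := k)) hα
  refine ⟨A, σ, h, ?_⟩
  obtain ⟨B, h1, -⟩ := exists_pow A σ (p ^ k)
  rw [h, ← map_pow, h1] at hα
  have h2 : lift (cj B * fld (σ ^ p ^ k)) = lift (fld (1 : F ≃+* F)) := by rw [hα, map_one, map_one]
  exact (injective_aux h2).2

theorem exists_chars (hM : IsPModular p M) (hp2 : p ≠ 2) (hF : p ∣ Fintype.card F - 1) (hn : p ≤ n)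
    (h3 : ¬ (p = 3 ∧ n = 3)) {A : Type u} [Group A] [Finite A] (N : Subgroup A) [hNn : N.Normal]
    (e : N ≃* Matrix.ProjectiveSpecialLinearGroup (Fin n) F) (P : Subgroup A) (hP : IsPGroup p P) :
    ∃ ξ : IrrCharacter (N ⊔ P : Subgroup A), ξ ∈ principalBlock M (N ⊔ P : Subgroup A) ∧
      ∃ ψ : IrrCharacter N, ψ ∈ principalBlock M N ∧
        (∀ n : N, (ξ : (N ⊔ P : Subgroup A) → ℂ) ⟨n, mem_sup_left n.2⟩ = (ψ : N → ℂ) n) ∧
        (charDegree (ψ : N → ℂ)).factorization p = 1 := by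
  have hp3 : 3 ≤ p := by
    have := hp.out.two_le
    omega
  have hn2 : 2 ≤ n := by omega
  have hnt : Nontrivial (Fin n) := Fin.nontrivial_iff_two_le.2 hn2
  obtain ⟨lb, hlb⟩ := exists_lab hp3 hn h3
  obtain ⟨l, hl, hl1⟩ := exists_char (F := F) hF
  let s : Fin n → (Fˣ →* ℂˣ) := fun i => ch l (lb i)
  have hsp : ∀ i x, s i x ^ p = 1 := fun i x => ch_pow hl _ x
  obtain ⟨b, hb1, hb2⟩ := exists_rep s
  have hH : Hyp b s := ⟨hb1, fun c => by
    show ∏ i, ch l (lb i) c = 1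
    rw [ch_sum hl, hlb.sum, ch_zero, MonoidHom.one_apply]⟩
  have hb3 : ∀ i j, b i = b j ↔ lb i = lb j := fun i j => by
    rw [hb2]
    exact ⟨fun h => ch_inj hl hl1 h, fun h => by show ch l (lb i) = ch l (lb j); rw [h]⟩
  -- the action
  let ρ : A →* MulAut (Matrix.ProjectiveSpecialLinearGroup (Fin n) F) := H112.HT.act N e
  have hρN : ∀ x : N, ρ x = MulAut.conj (e x) := by
    intro x
    apply MulEquiv.ext
    intro y
    rw [MulAut.conj_apply]
    show H112.HT.act N e x y = _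
    rw [H112.HT.act_apply]
    conv_rhs => rw [← e.apply_symm_apply y]
    rw [← map_mul, ← map_inv, ← map_mul]
    rfl
  have hρs : ∀ g : Matrix.SpecialLinearGroup (Fin n) F, ρ (e.symm (pr g) : N) =
      lift (cj (Matrix.SpecialLinearGroup.toGL g)) := by
    intro g
    rw [hρN, MulEquiv.apply_symm_apply, conj_pr]
  let H : Subgroup A := (N ⊔ P) ⊓ (QP b s).comap ρ
  let lam : H →* ℂˣ := (LamA hH).comp
    { toFun := fun x => ⟨ρ (x : A), x.2.2⟩
      map_one' := Subtype.ext (map_one ρ)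
      map_mul' := fun x y => Subtype.ext (map_mul ρ _ _) }
  -- membership of elements of `N`
  have hmem : ∀ g : Matrix.SpecialLinearGroup (Fin n) F, ((e.symm (pr g) : N) : A) ∈ H ↔ g ∈ PS F b := by
    intro g
    constructor
    · intro h
      have h1 : ρ (e.symm (pr g) : N) ∈ QP b s := h.2
      rw [hρs] at h1
      exact mem_of_conj h1
    · intro h
      refine ⟨mem_sup_left (e.symm (pr g)).2, ?_⟩
      show ρ (e.symm (pr g) : N) ∈ QP b s
      rw [hρs]
      exact ⟨_, h, 1, Fix.one, by rw [map_one, mul_one]⟩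
  have hlam : ∀ (g : Matrix.SpecialLinearGroup (Fin n) F) (hg : g ∈ PS F b),
      lam ⟨((e.symm (pr g) : N) : A), (hmem g).2 hg⟩ = LamS b s ⟨g, hg⟩ := by
    intro g hg
    refine LamA_apply hH (α := ⟨ρ ((e.symm (pr g) : N) : A), ((hmem g).2 hg).2⟩) hg (σ := 1) ?_
    show ρ (e.symm (pr g) : N) = _
    rw [hρs, map_one, mul_one]
  obtain ⟨ξ, h1, ψ, h2, h4, h5⟩ := Ind.exists_ind_sup hM N P H inf_le_left (by
      intro y hy
      obtain ⟨k, hk⟩ := hP ⟨y, hy⟩
      have hk' : y ^ p ^ k = 1 := congrArg Subtype.val hk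
      have hα : (ρ y) ^ p ^ k = 1 := by rw [← map_pow, hk', map_one]
      obtain ⟨C, σ, h, hσ⟩ := exists_of_pow hn2 hp2 hα
      have hfix : Fix s σ := fix_of_pow (by rwa [Nat.card_eq_fintype_card]) hsp hσ
      obtain ⟨x, hx⟩ := exists_mul_mem (b := b) (by omega) (A := C) hfix
      have h6 : ((e.symm (pr x) : N) : A) * y ∈ H := by
        refine ⟨mul_mem (mem_sup_left (e.symm (pr x)).2) (mem_sup_right hy), ?_⟩
        show ρ (((e.symm (pr x) : N) : A) * y) ∈ QP b s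
        rw [map_mul, hρs, h]
        exact hx
      have h7 : y = ((e.symm (pr x) : N) : A)⁻¹ * (((e.symm (pr x) : N) : A) * y) := by group
      rw [h7]
      exact mul_mem (mem_sup_left (inv_mem (e.symm (pr x)).2)) (mem_sup_right h6)) lam (by
      refine ⟨1, MonoidHom.ext fun x => ?_⟩
      show Lam s _ ^ p ^ 1 = 1
      rw [pow_one, Lam_apply, ← Finset.prod_pow]
      exact Finset.prod_eq_one fun i _ => hsp i _) (by
      intro x hx h
      obtain ⟨g, hg⟩ := pr_surjective (e ⟨x, hx⟩)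
      have hxg : x = ((e.symm (pr g) : N) : A) := by rw [hg, MulEquiv.symm_apply_apply]
      subst hxg
      rw [hmem]
      obtain ⟨σ, h6, h7⟩ := exists_mackeyS (F := F) hb1 g⁻¹
      have h8 : ∀ i, lb (σ i) = lb i := by
        refine fun i => lab_eq hl hl1 hlb (by omega) (σ := σ) ?_ i
        intro t ht
        obtain ⟨y, hy, hy1, hy2⟩ := h7 t ht
        rw [inv_inv] at hy
        have hy' : g * (y : Matrix.SpecialLinearGroup (Fin n) F) * g⁻¹ ∈ PS F b := hy
        have h9 := h ⟨_, (hmem _).2 y.2⟩ ⟨_, (hmem _).2 hy'⟩ (e.symm (pr (y : Matrix.SpecialLinearGroup (Fin n) F))).2 (by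
          show ((e.symm (pr (g * (y : Matrix.SpecialLinearGroup (Fin n) F) * g⁻¹)) : N) : A) = _
          rw [map_mul, map_mul, map_inv, map_mul, map_mul, map_inv]
          rfl)
        rw [hlam _ y.2, hlam _ hy'] at h9
        have h10 : LamS b s (⟨g * (y : Matrix.SpecialLinearGroup (Fin n) F) * g⁻¹, hy'⟩ : PS F b) =
            ∏ i, s i (t (σ i)) := by
          rw [← hy2]
          congr 1
          apply Subtype.ext
          show _ = (g⁻¹)⁻¹ * (y : Matrix.SpecialLinearGroup (Fin n) F) * g⁻¹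
          rw [inv_inv]
        rw [h10] at h9
        rw [← h9]
        exact hy1.symm
      have h11 := h6 fun i => (hb3 _ _).2 (h8 i)
      rw [← inv_inv g]
      exact inv_mem h11)
  refine ⟨ξ, h1, ψ, h2, h4, ?_⟩
  rw [h5]
  -- the index
  have h6 : (H.subgroupOf N).comap (e.symm.toMonoidHom.comp (pr : Matrix.SpecialLinearGroup (Fin n) F →* _)) = PS F b := by
    ext g
    rw [mem_comap, mem_subgroupOf]
    exact hmem g
  have h7 : (H.subgroupOf N).index = (PS F b).index := by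
    rw [← h6, Subgroup.index_comap_of_surjective]
    exact e.symm.surjective.comp pr_surjective
  have h8 := Idx.val_index (F := F) hp2 hF b
  have h9 := Idx.sum_fibres b lb hb3 (V p) (V_lt hp.out.pos)
  have h10 := hlb.val
  rw [h7, Idx.index_PS b (by omega), Nat.factorization_def _ hp.out]
  omega

end Cfsg.Agent.H279.HT.PslRow
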