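import Cfsg.Agent.H279.HT.PslRow

/-!
# S4933, `PSL_3(F)`, `p = 3`, `9 ∣ |F| - 1`: the character of degree `(q + 1) (q ^ 2 + q + 1)` (helper279)

* `exists_ppart` : `u = c ^ (p ^ r) * v`, `v` a `p`-element;
* `exists_exp`   : a field automorphism of `p`-power order is `x ↦ x ^ m`, `m ≡ 1 mod p`, on `Fˣ`;
* `exists_char_nine`, `sv` : `λ` of order 9, `s = (λ, λ⁻¹, 1)`;
* `exists_chars_nine` : `ξ ∈ B₀(N P)` with irreducible restriction `ψ ∈ B₀(N)`, `v_3 (ψ(1)) = 1`, if `P` fixes `s`.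
-/

set_option autoImplicit false

namespace Cfsg.Agent.H279.HT.Three

open Cfsg Subgroup Equiv Matrix
open Cfsg.Agent.ClassicalGeometry.AutPSL.Root Cfsg.Agent.ClassicalGeometry.AutPSL.Auto
open Cfsg.Agent.ClassicalGeometry.AutPSL.Main
open Cfsg.Agent.CpAut.Psl
open Cfsg.Agent.H755.Sd Cfsg.Agent.H755.Sd.Par Cfsg.Agent.H755.Sd.Syl
open Cfsg.Agent.H279.HT.Num Cfsg.Agent.H279.HT.PslChar Cfsg.Agent.H279.HT.PslAut
open Cfsg.Agent.H316.HT

universe u

/-- the `p`-part of an element -/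
theorem exists_ppart {G : Type*} [CommGroup G] [Finite G] {p : ℕ} (hp : p.Prime) (r : ℕ) (x : G) :
    ∃ (c v : G) (k : ℕ), x = c ^ p ^ r * v ∧ v ^ p ^ k = 1 := by
  have hn : orderOf x ≠ 0 := (orderOf_pos x).ne'
  obtain ⟨e, m, hm, he⟩ := Nat.exists_eq_pow_mul_and_not_dvd hn p hp.one_lt.ne'
  have hcop : IsCoprime ((p : ℤ) ^ (r + e)) (m : ℤ) := by
    have h1 : Nat.Coprime (p ^ (r + e)) m := Nat.Coprime.pow_left _ ((Nat.Prime.coprime_iff_not_dvd hp).2 hm)
    have h2 := Nat.isCoprime_iff_coprime.2 h1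
    exact_mod_cast h2
  obtain ⟨a, b, hab⟩ := hcop
  refine ⟨x ^ (a * (p : ℤ) ^ e), x ^ (b * m), e, ?_, ?_⟩
  · rw [← _root_.zpow_natCast, ← _root_.zpow_mul, ← _root_.zpow_add]
    conv_lhs => rw [← _root_.zpow_one x]
    congr 1
    rw [← hab]
    push_cast
    ring
  · rw [← _root_.zpow_natCast, ← _root_.zpow_mul]
    have h1 : (b * m) * ((p ^ e : ℕ) : ℤ) = ((orderOf x : ℕ) : ℤ) * b := by
      rw [he]
      push_cast
      ring
    rw [h1, _root_.zpow_mul, _root_.zpow_natCast, pow_orderOf_eq_one, _root_.one_zpow]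

/-- a field automorphism of `p`-power order on `Fˣ`, `p ∣ |F| - 1` -/
theorem exists_exp {F : Type*} [Field F] [Finite F] {p : ℕ} [hp : Fact p.Prime] (hq : p ∣ Nat.card F - 1)
    {σ : F ≃+* F} {c : ℕ} (hσ : σ ^ p ^ c = 1) :
    ∃ m : ℤ, (∀ x : Fˣ, Units.map (σ : F →* F) x = x ^ m) ∧ (p : ℤ) ∣ m - 1 := by
  have := Fintype.ofFinite F
  let f : Fˣ →* Fˣ := Units.map (σ : F →* F)
  obtain ⟨m, hm⟩ := MonoidHom.map_cyclic f
  have hiter : ∀ (k : ℕ) (x : Fˣ), Units.map ((σ ^ k : F ≃+* F) : F →* F) x = x ^ (m ^ k) := by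
    intro k
    induction k with
    | zero => intro x; apply Units.ext; simp
    | succ k ih =>
      intro x
      have e : Units.map ((σ ^ (k + 1) : F ≃+* F) : F →* F) x = Units.map ((σ ^ k : F ≃+* F) : F →* F) (f x) := by
        apply Units.ext
        rw [pow_succ]
        rfl
      rw [e, ih, hm, ← _root_.zpow_mul, pow_succ', mul_comm]
  obtain ⟨g, hg⟩ := IsCyclic.exists_generator (α := Fˣ)
  have hord : orderOf g = Nat.card F - 1 := by
    rw [orderOf_eq_card_of_forall_mem_zpowers hg, Nat.card_units]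
  have h1 : g ^ (m ^ p ^ c) = g := by
    rw [← hiter, hσ]
    apply Units.ext
    rfl
  have h2 : ((Nat.card F - 1 : ℕ) : ℤ) ∣ m ^ p ^ c - 1 := by
    rw [← hord]
    rw [orderOf_dvd_iff_zpow_eq_one, _root_.zpow_sub, h1, _root_.zpow_one, mul_inv_cancel]
  have h3 : (p : ℤ) ∣ m ^ p ^ c - 1 := (Int.natCast_dvd_natCast.2 hq).trans h2
  have h4 : (p : ℤ) ∣ m - 1 := by
    rw [← ZMod.intCast_zmod_eq_zero_iff_dvd] at h3 ⊢
    push_cast at h3 ⊢
    rwa [ZMod.pow_card_pow] at h3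
  exact ⟨m, hm, h4⟩

section
variable {F : Type*} [Field F]

/-- a character of order 9 -/
theorem exists_char_nine [Fintype F] (hF : 9 ∣ Fintype.card F - 1) :
    ∃ l : Fˣ →* ℂˣ, (∀ x, l x ^ 9 = 1) ∧ ∃ x, l x ^ 3 ≠ 1 := by
  obtain ⟨g, hg⟩ := IsCyclic.exists_generator (α := Fˣ)
  have hord : orderOf g = Fintype.card F - 1 := by
    rw [orderOf_eq_card_of_forall_mem_zpowers hg, Nat.card_units, Nat.card_eq_fintype_card]
  have hζ := Complex.isPrimitiveRoot_exp 9 (by norm_num)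
  obtain ⟨z, hz⟩ : ∃ z : ℂˣ, (z : ℂ) = Complex.exp (2 * Real.pi * Complex.I / (9 : ℕ)) :=
    ⟨Units.mk0 _ (Complex.exp_ne_zero _), rfl⟩
  rw [← hz] at hζ
  have hz1 : orderOf z = 9 := by
    rw [← orderOf_units]
    exact hζ.eq_orderOf.symm
  have hzp : z ^ 9 = 1 := by rw [← hz1]; exact pow_orderOf_eq_one z
  refine ⟨monoidHomOfForallMemZpowers hg (g' := z) (by rw [hz1, hord]; exact hF), ?_, g, ?_⟩
  · intro x
    obtain ⟨k, hk⟩ := Subgroup.mem_zpowers_iff.1 (hg x)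
    rw [← hk, map_zpow, monoidHomOfForallMemZpowers_apply_gen, ← _root_.zpow_natCast, ← _root_.zpow_mul, mul_comm,
      _root_.zpow_mul, _root_.zpow_natCast]
    have : ((9 : ℕ) : ℤ) = 9 := rfl
    rw [hzp, _root_.one_zpow]
  · intro h
    rw [monoidHomOfForallMemZpowers_apply_gen] at h
    have h1 := orderOf_dvd_of_pow_eq_one h
    rw [hz1] at h1
    exact absurd (Nat.le_of_dvd (by norm_num) h1) (by norm_num)

/-- `(λ, λ⁻¹, 1)` -/
def sv (l : Fˣ →* ℂˣ) : Fin 3 → (Fˣ →* ℂˣ) := ![l, l⁻¹, 1]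

theorem hyp (l : Fˣ →* ℂˣ) : Hyp (F := F) (id : Fin 3 → Fin 3) (sv l) := ⟨fun _ => rfl, fun c => by
  rw [Fin.prod_univ_three]
  show l c * (l c)⁻¹ * 1 = 1
  rw [mul_inv_cancel, one_mul]⟩

theorem sv_inj {l : Fˣ →* ℂˣ} (hl : ∀ x, l x ^ 9 = 1) (hl1 : ∃ x, l x ^ 3 ≠ 1) {i j : Fin 3}
    (h : ∀ x, sv l i x ^ 3 = sv l j x ^ 3) : i = j := by
  obtain ⟨x, hx⟩ := hl1
  have h0 := h x
  have h9 := hl x
  obtain ⟨w, hw⟩ : ∃ w, w = l x ^ 3 := ⟨_, rfl⟩
  have hw3 : w ^ 3 = 1 := by rw [hw, ← pow_mul]; exact h9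
  rw [← hw] at hx
  have e0 : sv l 0 x ^ 3 = w := hw.symm
  have e1 : sv l 1 x ^ 3 = w⁻¹ := by rw [hw, ← inv_pow]; rfl
  have e2 : sv l 2 x ^ 3 = 1 := one_pow 3
  have h01 : w ≠ w⁻¹ := by
    intro h
    apply hx
    have h2 : w * w = 1 := by nth_rewrite 2 [h]; exact mul_inv_cancel w
    rw [pow_succ, pow_two, h2, one_mul] at hw3
    exact hw3
  have h12 : w⁻¹ ≠ 1 := fun h => hx (inv_eq_one.1 h)
  fin_cases i <;> fin_cases j
  · rfl
  · exact absurd (e0.symm.trans (h0.trans e1)) h01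
  · exact absurd (e0.symm.trans (h0.trans e2)) hx
  · exact absurd (e0.symm.trans (h0.symm.trans e1)) h01
  · rfl
  · exact absurd (e1.symm.trans (h0.trans e2)) h12
  · exact absurd (e0.symm.trans (h0.symm.trans e2)) hx
  · exact absurd (e1.symm.trans (h0.symm.trans e2)) h12
  · rfl

/-- Mackey's criterion -/
theorem perm_eq {s : Fin 3 → (Fˣ →* ℂˣ)} (hs : ∀ c : Fˣ, ∏ i, s i c = 1)
    (hi : ∀ i j : Fin 3, (∀ x, s i x ^ 3 = s j x ^ 3) → i = j) {σ : Perm (Fin 3)}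
    (h : ∀ t : Fin 3 → Fˣ, ∏ i, t i = 1 → ∏ i, s i (t i) = ∏ i, s i (t (σ i))) (i : Fin 3) : σ i = i := by
  have h1 : ∀ t : Fin 3 → Fˣ, ∏ i, t i = 1 → ∏ i, s (σ⁻¹ i) (t i) = ∏ i, s i (t i) := by
    intro t ht
    rw [h t ht, ← Equiv.prod_comp σ⁻¹ (fun i => s i (t (σ i)))]
    refine Finset.prod_congr rfl fun i _ => ?_
    rw [show σ (σ⁻¹ i) = i from σ.apply_symm_apply i]
  have h2 := TD.semi_of_prod (0 : Fin 3) (r := fun i => s (σ⁻¹ i)) (r' := fun i => s i) h1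
  obtain ⟨c, hc⟩ : ∃ c : Fˣ →* ℂˣ, c = s (σ⁻¹ 0) * (s 0)⁻¹ := ⟨_, rfl⟩
  have h3 : ∀ j x, s (σ⁻¹ j) x = c x * s j x := by
    intro j x
    have h4 := congrArg (fun f : Fˣ →* ℂˣ => f x) (h2 j)
    rw [hc]
    exact h4
  have hc3 : ∀ x, c x ^ 3 = 1 := by
    intro x
    have h5 : ∏ i, s (σ⁻¹ i) x = ∏ i, s i x := Equiv.prod_comp σ⁻¹ (fun i => s i x)
    rw [Finset.prod_congr rfl fun i _ => h3 i x, Finset.prod_mul_distrib, hs, mul_one, Finset.prod_const,
      Finset.card_univ, Fintype.card_fin] at h5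
    exact h5
  have h6 := hi (σ⁻¹ (σ i)) (σ i) (fun x => by rw [h3, mul_pow, hc3, one_mul])
  rw [show σ⁻¹ (σ i) = i from σ.symm_apply_apply i] at h6
  exact h6.symm

end

variable {F : Type} [Field F] [Fintype F] {M : Ideal AlgInt}

theorem act_coe {A : Type u} [Group A] (N : Subgroup A) [hNn : N.Normal] {n : ℕ}
    (e : N ≃* Matrix.ProjectiveSpecialLinearGroup (Fin n) F) (x : N) :
    H112.HT.act N e x = MulAut.conj (e x) := by
  apply MulEquiv.ext
  intro y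
  rw [MulAut.conj_apply]
  show H112.HT.act N e x y = _
  rw [H112.HT.act_apply]
  conv_rhs => rw [← e.apply_symm_apply y]
  rw [← map_mul, ← map_inv, ← map_mul]
  rfl

theorem act_pr {A : Type u} [Group A] (N : Subgroup A) [hNn : N.Normal] {n : ℕ}
    (e : N ≃* Matrix.ProjectiveSpecialLinearGroup (Fin n) F) (g : Matrix.SpecialLinearGroup (Fin n) F) :
    H112.HT.act N e (e.symm (pr g) : N) = lift (cj (Matrix.SpecialLinearGroup.toGL g)) := by
  rw [act_coe, MulEquiv.apply_symm_apply, PslRow.conj_pr]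

theorem exists_chars_nine (hM : IsPModular 3 M) (hF : 3 ∣ Fintype.card F - 1) {l : Fˣ →* ℂˣ}
    (hl : ∀ x, l x ^ 9 = 1) (hl1 : ∃ x, l x ^ 3 ≠ 1) {A : Type u} [Group A] [Finite A] (N : Subgroup A)
    [hNn : N.Normal] (e : N ≃* Matrix.ProjectiveSpecialLinearGroup (Fin 3) F) (P : Subgroup A)
    (hP : ∀ y ∈ P, ∃ (C : GL (Fin 3) F) (σ : F ≃+* F), H112.HT.act N e y = lift (cj C * fld σ) ∧ Fix (sv l) σ) :
    ∃ ξ : IrrCharacter (N ⊔ P : Subgroup A), ξ ∈ principalBlock M (N ⊔ P : Subgroup A) ∧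
      ∃ ψ : IrrCharacter N, ψ ∈ principalBlock M N ∧
        (∀ n : N, (ξ : (N ⊔ P : Subgroup A) → ℂ) ⟨n, mem_sup_left n.2⟩ = (ψ : N → ℂ) n) ∧
        (charDegree (ψ : N → ℂ)).factorization 3 = 1 := by
  have hp : Fact (Nat.Prime 3) := ⟨Nat.prime_three⟩
  let b : Fin 3 → Fin 3 := id
  let s : Fin 3 → (Fˣ →* ℂˣ) := sv l
  have hH : Hyp b s := hyp l
  -- the action
  let ρ : A →* MulAut (Matrix.ProjectiveSpecialLinearGroup (Fin 3) F) := H112.HT.act N e
  have hρs : ∀ g : Matrix.SpecialLinearGroup (Fin 3) F, ρ (e.symm (pr g) : N) =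
      lift (cj (Matrix.SpecialLinearGroup.toGL g)) := act_pr N e
  let H : Subgroup A := (N ⊔ P) ⊓ (QP b s).comap ρ
  let lam : H →* ℂˣ := (LamA hH).comp
    { toFun := fun x => ⟨ρ (x : A), x.2.2⟩
      map_one' := Subtype.ext (map_one ρ)
      map_mul' := fun x y => Subtype.ext (map_mul ρ _ _) }
  -- membership of elements of `N`
  have hmem : ∀ g : Matrix.SpecialLinearGroup (Fin 3) F, ((e.symm (pr g) : N) : A) ∈ H ↔ g ∈ PS F b := by
    intro g
    constructor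
    · intro h
      have h1 : ρ (e.symm (pr g) : N) ∈ QP b s := h.2
      rw [hρs] at h1
      exact mem_of_conj h1
    · intro h
      refine ⟨mem_sup_left (e.symm (pr g)).2, ?_⟩
      show ρ (e.symm (pr g) : N) ∈ QP b s
      rw [hρs]
      exact ⟨_, h, 1, Fix.one, by rw [map_one, mul_one]⟩
  have hlam : ∀ (g : Matrix.SpecialLinearGroup (Fin 3) F) (hg : g ∈ PS F b),
      lam ⟨((e.symm (pr g) : N) : A), (hmem g).2 hg⟩ = LamS b s ⟨g, hg⟩ := by
    intro g hg
    refine LamA_apply hH (α := ⟨ρ ((e.symm (pr g) : N) : A), ((hmem g).2 hg).2⟩) hg (σ := 1) ?_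
    show ρ (e.symm (pr g) : N) = _
    rw [hρs, map_one, mul_one]
  obtain ⟨ξ, h1, ψ, h2, h4, h5⟩ := Ind.exists_ind_sup hM N P H inf_le_left (by
      intro y hy
      obtain ⟨C, σ, h, hfix⟩ := hP y hy
      obtain ⟨x, hx⟩ := exists_mul_mem (b := b) (by norm_num) (A := C) hfix
      have h6 : ((e.symm (pr x) : N) : A) * y ∈ H := by
        refine ⟨mul_mem (mem_sup_left (e.symm (pr x)).2) (mem_sup_right hy), ?_⟩
        show ρ (((e.symm (pr x) : N) : A) * y) ∈ QP b s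
        rw [map_mul, hρs]
        change lift _ * H112.HT.act N e y ∈ QP b s
        rw [h]
        exact hx
      have h7 : y = ((e.symm (pr x) : N) : A)⁻¹ * (((e.symm (pr x) : N) : A) * y) := by group
      rw [h7]
      exact mul_mem (mem_sup_left (inv_mem (e.symm (pr x)).2)) (mem_sup_right h6)) lam (by
      refine ⟨2, MonoidHom.ext fun x => ?_⟩
      show Lam s _ ^ 3 ^ 2 = 1
      rw [Lam_apply, ← Finset.prod_pow]
      refine Finset.prod_eq_one fun i _ => ?_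
      have h9 : ∀ (i : Fin 3) (x : Fˣ), s i x ^ 3 ^ 2 = 1 := by
        intro i x
        fin_cases i
        · exact hl x
        · show ((l x)⁻¹) ^ 9 = 1
          rw [inv_pow, hl, inv_one]
        · exact one_pow _
      exact h9 _ _) (by
      intro x hx h
      obtain ⟨g, hg⟩ := pr_surjective (e ⟨x, hx⟩)
      have hxg : x = ((e.symm (pr g) : N) : A) := by rw [hg, MulEquiv.symm_apply_apply]
      subst hxg
      rw [hmem]
      obtain ⟨σ, h6, h7⟩ := exists_mackeyS (F := F) (b := b) (s := s) (fun _ => rfl) g⁻¹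
      have h8 : ∀ i, σ i = i := by
        refine fun i => perm_eq hH.hp (fun i j h => sv_inj hl hl1 h) (σ := σ) ?_ i
        intro t ht
        obtain ⟨y, hy, hy1, hy2⟩ := h7 t ht
        rw [inv_inv] at hy
        have hy' : g * (y : Matrix.SpecialLinearGroup (Fin 3) F) * g⁻¹ ∈ PS F b := hy
        have h9 := h ⟨_, (hmem _).2 y.2⟩ ⟨_, (hmem _).2 hy'⟩ (e.symm (pr (y : Matrix.SpecialLinearGroup (Fin 3) F))).2 (by
          show ((e.symm (pr (g * (y : Matrix.SpecialLinearGroup (Fin 3) F) * g⁻¹)) : N) : A) = _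
          rw [map_mul, map_mul, map_inv, map_mul, map_mul, map_inv]
          rfl)
        rw [hlam _ y.2, hlam _ hy'] at h9
        have h10 : LamS b s (⟨g * (y : Matrix.SpecialLinearGroup (Fin 3) F) * g⁻¹, hy'⟩ : PS F b) =
            ∏ i, s i (t (σ i)) := by
          rw [← hy2]
          congr 1
          apply Subtype.ext
          show _ = (g⁻¹)⁻¹ * (y : Matrix.SpecialLinearGroup (Fin 3) F) * g⁻¹
          rw [inv_inv]
        rw [h10] at h9
        rw [← h9]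
        exact hy1.symm
      have h11 := h6 fun i => (h8 i)
      rw [← inv_inv g]
      exact inv_mem h11)
  refine ⟨ξ, h1, ψ, h2, h4, ?_⟩
  rw [h5]
  -- the index
  have h6 : (H.subgroupOf N).comap (e.symm.toMonoidHom.comp (pr : Matrix.SpecialLinearGroup (Fin 3) F →* _)) = PS F b := by
    ext g
    rw [mem_comap, mem_subgroupOf]
    exact hmem g
  have h7 : (H.subgroupOf N).index = (PS F b).index := by
    rw [← h6, Subgroup.index_comap_of_surjective]
    exact e.symm.surjective.comp pr_surjective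
  have h8 := Idx.val_index (F := F) (p := 3) (by norm_num) hF b
  have h9 : ∑ k : Fin 3, V 3 (Finset.univ.filter fun i : Fin 3 => b i = k).card = 0 := by
    refine Finset.sum_eq_zero fun k _ => V_lt ?_
    have : (Finset.univ.filter fun i : Fin 3 => b i = k) = {k} := by
      ext i
      simp [b]
    rw [this, Finset.card_singleton]
    norm_num
  have h10 : V 3 3 = 1 := by
    have := V_mul (p := 3) 1
    rw [mul_one, V_lt (p := 3) (m := 1) (by norm_num)] at this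
    exact this
  rw [h7, Idx.index_PS b (by norm_num), Nat.factorization_def _ Nat.prime_three]
  omega

end Cfsg.Agent.H279.HT.Three
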