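import Cfsg.Agent.H279.HT.ThreeVal

/-!
# S4933, `PSL_3(F)`, `p = 3`, `9 ∣ |F| - 1`: if `P` moves the character of order 9, then `a ≥ 2` (helper279)
-/

set_option autoImplicit false

namespace Cfsg.Agent.H279.HT.ThreeDeg

open Cfsg Subgroup Equiv Matrix
open Cfsg.Agent.ClassicalGeometry.AutPSL.Root Cfsg.Agent.ClassicalGeometry.AutPSL.Auto
open Cfsg.Agent.ClassicalGeometry.AutPSL.Main
open Cfsg.Agent.CpAut.Psl
open Cfsg.Agent.H139.Bruhat
open Cfsg.Agent.H755.Sd Cfsg.Agent.H755.Sd.Par Cfsg.Agent.H755.Sd.Syl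
open Cfsg.Agent.H279.HT.PslAut Cfsg.Agent.H279.HT.Mono Cfsg.Agent.H279.HT.Three Cfsg.Agent.H279.HT.ThreeVal
open Cfsg.Agent.H316.HT

universe u

section
variable {F : Type*} [Field F]

/-- the diagonal automorphisms of `p`-power order -/
def Dg (p n : ℕ) (F : Type*) [Field F] : Subgroup (MulAut (Matrix.ProjectiveSpecialLinearGroup (Fin n) F)) where
  carrier := {α | ∃ d : Fin n → Fˣ, Pow p d ∧ α = dg d}
  one_mem' := ⟨1, Pow.one p, dg_one.symm⟩
  mul_mem' := by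
    rintro _ _ ⟨d, ⟨k, hk⟩, rfl⟩ ⟨d', ⟨l, hl⟩, rfl⟩
    refine ⟨d * d', ⟨k + l, ?_⟩, (dg_mul d d').symm⟩
    rw [mul_pow, pow_add, pow_mul, hk, one_pow, one_mul, mul_comm (p ^ k), pow_mul, hl, one_pow]
  inv_mem' := by
    rintro _ ⟨d, ⟨k, hk⟩, rfl⟩
    refine ⟨d⁻¹, ⟨k, by rw [inv_pow, hk, inv_one]⟩, ?_⟩
    rw [inv_eq_iff_mul_eq_one, ← dg_mul, mul_inv_cancel, dg_one]

theorem Dg_le {n p : ℕ} (b : Fin n → Fin n) (s : Fin n → (Fˣ →* ℂˣ)) : Dg p n F ≤ QP b s := by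
  rintro _ ⟨d, -, rfl⟩
  exact ⟨dgl d, dgl_mem d, 1, Fix.one, by rw [map_one, mul_one]; rfl⟩

theorem exists_sl {n : ℕ} {g : GL (Fin n) F} (h : (g : Matrix (Fin n) (Fin n) F).det = 1) :
    ∃ x : Matrix.SpecialLinearGroup (Fin n) F, Matrix.SpecialLinearGroup.toGL x = g :=
  ⟨⟨_, h⟩, Units.ext rfl⟩

theorem exists_sl' {n : ℕ} {g : GL (Fin n) F} (h : Matrix.GeneralLinearGroup.det g = 1) :
    ∃ x : Matrix.SpecialLinearGroup (Fin n) F, Matrix.SpecialLinearGroup.toGL x = g :=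
  exists_sl (congrArg Units.val h)

theorem det_perm {n : ℕ} {c : Perm (Fin n)} (hc : Perm.sign c = 1) :
    ((permGL F n c : GL (Fin n) F) : Matrix (Fin n) (Fin n) F).det = 1 := by
  rw [coe_permGL, Matrix.det_permutation, Perm.sign_inv, hc]
  simp

theorem det_dgl {n : ℕ} (d : Fin n → Fˣ) : Matrix.GeneralLinearGroup.det (dgl d) = ∏ i, d i := by
  apply Units.ext
  show ((dgl d : GL (Fin n) F) : Matrix (Fin n) (Fin n) F).det = _
  rw [coe_dgl, Matrix.det_diagonal, Units.coe_prod]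

theorem det_scg {n : ℕ} (u : Fˣ) : Matrix.GeneralLinearGroup.det (scg u : GL (Fin n) F) = u ^ n := by
  have h1 : (scg u : GL (Fin n) F) = dgl (fun _ => u) := by
    apply Units.ext
    rfl
  rw [h1, det_dgl, Finset.prod_const, Finset.card_univ, Fintype.card_fin]

/-- the diagonal representative with entries of `3`-power order -/
theorem exists_z [Finite F] (C : GL (Fin 3) F) (σ : F ≃+* F) : ∃ (x : Matrix.SpecialLinearGroup (Fin 3) F)
    (d : Fin 3 → Fˣ), Pow 3 d ∧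
      lift (cj (Matrix.SpecialLinearGroup.toGL x)) * lift (cj C * fld σ) = el d 1 σ := by
  obtain ⟨c0, v, k, hv, hv1⟩ := exists_ppart Nat.prime_three 1 (Matrix.GeneralLinearGroup.det C)
  obtain ⟨d, hd⟩ : ∃ d : Fin 3 → Fˣ, d = ![v, 1, 1] := ⟨_, rfl⟩
  obtain ⟨C', hC'⟩ : ∃ C' : GL (Fin 3) F, C' = scg c0⁻¹ * C := ⟨_, rfl⟩
  have hcj : cj C' = cj C := by rw [hC', map_mul, cj_scg, one_mul]
  have hdet : Matrix.GeneralLinearGroup.det C' = v := by
    rw [hC', map_mul, det_scg, hv, ← mul_assoc, pow_one, ← mul_pow, inv_mul_cancel, one_pow, one_mul]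
  have hdet' : Matrix.GeneralLinearGroup.det (dgl d) = v := by
    rw [det_dgl, hd, Fin.prod_univ_three]
    simp
  obtain ⟨x, hx⟩ := exists_sl' (F := F) (g := dgl d * C'⁻¹) (by
    rw [map_mul, map_inv, hdet, hdet', mul_inv_cancel])
  refine ⟨x, d, ⟨k, ?_⟩, ?_⟩
  · rw [hd]
    exact (pow3 hv1).2.2
  · rw [hx, ← hcj, ← map_mul, ← mul_assoc, ← map_mul cj, inv_mul_cancel_right]
    unfold el
    rw [TD.mon_one_right]

end

/-- the values of the linear character on the torus -/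
theorem lam_dg {F : Type*} [Field F] (l : Fˣ →* ℂˣ)
    {α : QP (id : Fin 3 → Fin 3) (sv l)} {d : Fin 3 → Fˣ}
    (h : (α : MulAut (Matrix.ProjectiveSpecialLinearGroup (Fin 3) F)) = dg d) :
    LamA (hyp l) α = l (d 0) * (l (d 1))⁻¹ := by
  have h1 : LamA (hyp l) α = Lam (sv l) (⟨dgl d, dgl_mem d⟩ : PB F id) := by
    refine LamA_apply (hyp l) (dgl_mem d) (σ := 1) ?_
    rw [h, map_one, mul_one]
    rfl
  rw [h1, Lam_dgl (fun _ => rfl), Fin.prod_univ_three]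
  show l (d 0) * (l (d 1))⁻¹ * 1 = _
  rw [mul_one]

end Cfsg.Agent.H279.HT.ThreeDeg
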