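import Cfsg.Agent.H279.HT.ThreeDeg

/-!
# S4933, `PSL_3(F)`, `p = 3`, `9 ∣ |F| - 1`: a character of degree at least 9 (helper279)
-/

set_option autoImplicit false

namespace Cfsg.Agent.H279.HT.ThreeNine

open Cfsg Subgroup Equiv Matrix
open Cfsg.Agent.ClassicalGeometry.AutPSL.Root Cfsg.Agent.ClassicalGeometry.AutPSL.Auto
open Cfsg.Agent.ClassicalGeometry.AutPSL.Main
open Cfsg.Agent.CpAut.Psl
open Cfsg.Agent.H139.Bruhat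
open Cfsg.Agent.H755.Sd Cfsg.Agent.H755.Sd.Par Cfsg.Agent.H755.Sd.Syl
open Cfsg.Agent.H279.HT.PslAut Cfsg.Agent.H279.HT.Mono Cfsg.Agent.H279.HT.Three Cfsg.Agent.H279.HT.ThreeVal
open Cfsg.Agent.H279.HT.ThreeDeg

universe u

theorem act_inj {A : Type u} [Group A] (N : Subgroup A) [hNn : N.Normal] (hC : centralizer (N : Set A) = ⊥)
    {S : Type*} [Group S] (e : N ≃* S) : Function.Injective (H112.HT.act N e) := by
  rw [injective_iff_map_eq_one]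
  intro x hx
  have hxc : x ∈ centralizer (N : Set A) := by
    rw [mem_centralizer_iff]
    intro m hm
    have h1 : H112.HT.act N e x (e ⟨m, hm⟩) = e ⟨m, hm⟩ := by rw [hx]; rfl
    rw [H112.HT.act_apply, e.symm_apply_apply] at h1
    have h3 : x * m * x⁻¹ = m := congrArg Subtype.val (e.injective h1)
    exact (mul_inv_eq_iff_eq_mul.1 h3).symm
  rw [hC] at hxc
  exact mem_bot.1 hxc

theorem rot_three : (finRotate 3) ^ 3 ^ 1 = 1 ∧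
    (∀ i : Fin 3, ((finRotate 3) ^ (i : ℕ))⁻¹ 0 = -i ∧ ((finRotate 3) ^ (i : ℕ))⁻¹ 1 = 1 - i) ∧
    Perm.sign (finRotate 3) = 1 := ⟨by decide, by decide, by decide⟩

variable {F : Type} [Field F] [Fintype F]

theorem nine_le (hF : 3 ∣ Fintype.card F - 1) {l : Fˣ →* ℂˣ}
    (hl : ∀ x, l x ^ 9 = 1) (hl1 : ∃ x, l x ^ 3 ≠ 1) {A : Type u} [Group A] [Finite A] (N : Subgroup A)
    [hNn : N.Normal] (hC : centralizer (N : Set A) = ⊥)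
    (e : N ≃* Matrix.ProjectiveSpecialLinearGroup (Fin 3) F) {y : A} {C : GL (Fin 3) F} {σ : F ≃+* F}
    (hy : H112.HT.act N e y = lift (cj C * fld σ)) {r : ℕ} (hσ : σ ^ 3 ^ r = 1) (hfix : ¬ Fix (sv l) σ) :
    ∃ X : Subgroup A, IsPGroup 3 X ∧ ∃ χ : IrrCharacter X, 9 ≤ charDegree (χ : X → ℂ) := by
  classical
  have hp : Fact (Nat.Prime 3) := ⟨Nat.prime_three⟩
  have hq : 3 ∣ Nat.card F - 1 := by rwa [Nat.card_eq_fintype_card]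
  obtain ⟨ρ, hρ⟩ : ∃ ρ : A →* MulAut (Matrix.ProjectiveSpecialLinearGroup (Fin 3) F), ρ = H112.HT.act N e := ⟨_, rfl⟩
  have hρi : Function.Injective ρ := by rw [hρ]; exact act_inj N hC e
  have hρs : ∀ g : Matrix.SpecialLinearGroup (Fin 3) F, ρ (e.symm (pr g) : N) =
      lift (cj (Matrix.SpecialLinearGroup.toGL g)) := by rw [hρ]; exact act_pr N e
  rw [← hρ] at hy
  obtain ⟨c, hc⟩ : ∃ c : Perm (Fin 3), c = finRotate 3 := ⟨_, rfl⟩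
  have hc3 : c ^ 3 ^ 1 = 1 := by rw [hc]; exact rot_three.1
  obtain ⟨X, hXd⟩ : ∃ X : Subgroup A, X = (E 3 c σ).comap ρ := ⟨_, rfl⟩
  have hXm : ∀ x : A, x ∈ X ↔ ∃ (i j : ℕ) (d : Fin 3 → Fˣ), Pow 3 d ∧ ρ x = el d (c ^ i) (σ ^ j) := by
    intro x
    rw [hXd]
    exact Iff.rfl
  have hX : IsPGroup 3 X := by
    intro x
    obtain ⟨k, hk⟩ := E_pow 3 c σ (show ρ x ∈ E 3 c σ from (hXm x).1 x.2) hc3 hσ
    refine ⟨k, Subtype.ext (hρi ?_)⟩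
    show ρ ((x : A) ^ 3 ^ k) = ρ 1
    rw [map_pow, hk, map_one]
  refine ⟨X, hX, ?_⟩
  -- the torus
  let T : Subgroup X := (Dg 3 3 F).comap (ρ.comp X.subtype)
  have hTm : ∀ x : X, x ∈ T ↔ ∃ d : Fin 3 → Fˣ, Pow 3 d ∧ ρ x = dg d := fun x => Iff.rfl
  have hT : T.Normal := ⟨by
    intro t ht x
    obtain ⟨d, hd, ht⟩ := (hTm t).1 ht
    obtain ⟨i, j, d', hd', hx⟩ := (hXm x).1 x.2
    refine (hTm _).2 ⟨_, hd.map ((c ^ i)⁻¹) (σ ^ j), ?_⟩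
    show ρ ((x : A) * t * (x : A)⁻¹) = _
    rw [map_mul, map_mul, map_inv, ht, hx, el_conj]⟩
  let μ : T →* ℂˣ := (LamA (hyp l)).comp
    { toFun := fun x => ⟨ρ (x : X), Dg_le _ _ x.2⟩
      map_one' := Subtype.ext (map_one ρ)
      map_mul' := fun x y => Subtype.ext (map_mul ρ _ _) }
  have hμ : ∀ (t : T) (d : Fin 3 → Fˣ), ρ (t : X) = dg d → μ t = l (d 0) * (l (d 1))⁻¹ := by
    intro t d h
    exact lam_dg l (α := ⟨ρ (t : X), Dg_le _ _ t.2⟩) h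
  -- the element `w`
  obtain ⟨W, hW⟩ := exists_sl (F := F) (g := permGL F 3 c) (det_perm (by rw [hc]; exact rot_three.2.2))
  have hw : ρ (e.symm (pr W) : N) = el 1 c 1 := by
    rw [hρs, hW]
    unfold el mon
    rw [map_one fld, mul_one, map_one, one_mul]
  obtain ⟨w, hw0⟩ : ∃ w : A, w = (e.symm (pr W) : N) := ⟨_, rfl⟩
  rw [← hw0] at hw
  have hwX : w ∈ X := (hXm _).2 ⟨1, 0, 1, Pow.one 3, by rw [hw, pow_one, pow_zero]⟩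
  -- the element `z`
  obtain ⟨z, d, hd, hz⟩ : ∃ (z : A) (d : Fin 3 → Fˣ), Pow 3 d ∧ ρ z = el d 1 σ := by
    obtain ⟨x, d, hd, hx⟩ := exists_z C σ
    exact ⟨((e.symm (pr x) : N) : A) * y, d, hd, by rw [map_mul, hρs, hy, hx]⟩
  have hzX : z ∈ X := (hXm _).2 ⟨0, 1, d, hd, by rw [hz, pow_one, pow_zero]⟩
  -- the nine elements
  obtain ⟨g, hg0⟩ : ∃ g : Fin 3 × Fin 3 → X, ∀ q, (g q : A) = w ^ (q.1 : ℕ) * z ^ (q.2 : ℕ) :=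
    ⟨fun q => ⟨w, hwX⟩ ^ (q.1 : ℕ) * ⟨z, hzX⟩ ^ (q.2 : ℕ), fun q => rfl⟩
  have hg : ∀ q, ∃ d', ρ (g q) = el d' (c ^ (q.1 : ℕ)) (σ ^ (q.2 : ℕ)) := by
    intro q
    obtain ⟨d1, -, h1⟩ := el_pow 3 (Pow.one 3) c (1 : F ≃+* F) q.1
    obtain ⟨d2, -, h2⟩ := el_pow 3 hd (1 : Perm (Fin 3)) σ q.2
    rw [hg0, map_mul, map_pow, map_pow, hw, hz, h1, h2, el_mul, one_pow, one_pow, mul_one, one_mul]
    exact ⟨_, rfl⟩
  have hgt : ∀ (q : Fin 3 × Fin 3) (t : T) (t' : Fin 3 → Fˣ), ρ (t : X) = dg t' →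
      μ ⟨g q * t * (g q)⁻¹, hT.conj_mem _ t.2 _⟩ =
        l (Units.map ((σ ^ (q.2 : ℕ) : F ≃+* F) : F →* F) (t' ((c ^ (q.1 : ℕ))⁻¹ 0))) *
        (l (Units.map ((σ ^ (q.2 : ℕ) : F ≃+* F) : F →* F) (t' ((c ^ (q.1 : ℕ))⁻¹ 1))))⁻¹ := by
    intro q t t' ht
    obtain ⟨d', hd'⟩ := hg q
    refine hμ _ (fun i => Units.map ((σ ^ (q.2 : ℕ) : F ≃+* F) : F →* F) (t' ((c ^ (q.1 : ℕ))⁻¹ i))) ?_
    show ρ ((g q : A) * (t : X) * (g q : A)⁻¹) = _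
    rw [map_mul, map_mul, map_inv, ht, hd', el_conj]
  obtain ⟨ε, ⟨k, hε⟩, ζ, hζ, hζ3, hζ1, hζi⟩ := exists_val hq hl hl1 hσ hfix
  have hmk : ∀ t' : Fin 3 → Fˣ, Pow 3 t' → ∏ i, t' i = 1 → ∃ t : T, ρ (t : X) = dg t' := by
    intro t' ht' hprod
    obtain ⟨x, hx⟩ := exists_sl' (F := F) (g := dgl t') (by rw [det_dgl, hprod])
    have h1 : ρ ((e.symm (pr x) : N) : A) = dg t' := by
      rw [hρs, hx]
      rfl
    have h2 : ((e.symm (pr x) : N) : A) ∈ X := (hXm _).2 ⟨0, 0, t', ht', by rw [h1, pow_zero, pow_zero, dg_eq]⟩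
    exact ⟨⟨⟨_, h2⟩, (hTm _).2 ⟨t', ht', h1⟩⟩, h1⟩
  obtain ⟨ta, hta⟩ := hmk ![ε, ε⁻¹, 1] ⟨k, (pow3 hε).1⟩ (by rw [Fin.prod_univ_three]; simp)
  obtain ⟨tb, htb⟩ := hmk ![1, ε, ε⁻¹] ⟨k, (pow3 hε).2.1⟩ (by rw [Fin.prod_univ_three]; simp)
  have hci : ∀ i : Fin 3, (c ^ (i : ℕ))⁻¹ 0 = -i ∧ (c ^ (i : ℕ))⁻¹ 1 = 1 - i := by
    rw [hc]; exact rot_three.2.1
  have hva : ∀ q : Fin 3 × Fin 3, μ ⟨g q * ta * (g q)⁻¹, hT.conj_mem _ ta.2 _⟩ =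
      (![ζ q.2 * ζ q.2, (ζ q.2)⁻¹, (ζ q.2)⁻¹] : Fin 3 → ℂˣ) q.1 := by
    intro q
    rw [hgt _ _ _ hta, (hci _).1, (hci _).2, ← hζ]
    exact rota (l.comp (Units.map ((σ ^ (q.2 : ℕ) : F ≃+* F) : F →* F))) ε q.1
  have hvb : ∀ q : Fin 3 × Fin 3, μ ⟨g q * tb * (g q)⁻¹, hT.conj_mem _ tb.2 _⟩ =
      (![(ζ q.2)⁻¹, (ζ q.2)⁻¹, ζ q.2 * ζ q.2] : Fin 3 → ℂˣ) q.1 := by
    intro q
    rw [hgt _ _ _ htb, (hci _).1, (hci _).2, ← hζ]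
    exact rotb (l.comp (Units.map ((σ ^ (q.2 : ℕ) : F ≃+* F) : F →* F))) ε q.1
  obtain ⟨χ, hχ⟩ := deg_ge T μ g (by
    intro q q' h
    have h1 := h ta
    have h2 := h tb
    rw [hva, hva] at h1
    rw [hvb, hvb] at h2
    have h3 := vals ((hζ3 q.2).trans (hζ3 q'.2).symm) (by rw [hζ3]; exact hζ1) h1 h2
    exact Prod.ext h3.1 (hζi _ _ h3.2))
  refine ⟨χ, le_trans (le_of_eq ?_) hχ⟩
  rw [Nat.card_eq_fintype_card, Fintype.card_prod, Fintype.card_fin]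

end Cfsg.Agent.H279.HT.ThreeNine
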