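import Cfsg.Agent.H279.HT.Mono

/-!
# S4933, `PSL_3(F)`, `p = 3`, `9 ∣ |F| - 1`: the nine values (helper279)
-/

set_option autoImplicit false

namespace Cfsg.Agent.H279.HT.ThreeVal

open Equiv
open Cfsg.Agent.H279.HT.PslAut Cfsg.Agent.H279.HT.Mono Cfsg.Agent.H279.HT.Three

theorem vals {G : Type*} [CommGroup G] {z z' : G} (hz : z ^ 3 = z' ^ 3) (h1 : z ^ 3 ≠ 1) {i k : Fin 3}
    (ha : (![z * z, z⁻¹, z⁻¹] : Fin 3 → G) i = (![z' * z', z'⁻¹, z'⁻¹] : Fin 3 → G) k)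
    (hb : (![z⁻¹, z⁻¹, z * z] : Fin 3 → G) i = (![z'⁻¹, z'⁻¹, z' * z'] : Fin 3 → G) k) : i = k ∧ z = z' := by
  have e3 : ∀ x : G, x ^ 3 = x * x * x := fun x => by rw [pow_succ, pow_two]
  have k1 : z * z = z' * z' → z = z' := by
    intro h
    rw [e3, e3, h] at hz
    exact mul_left_cancel hz
  have k2 : z⁻¹ = z'⁻¹ → z = z' := inv_injective.eq_iff.1
  have k3 : z * z = z'⁻¹ → z = z' → False := by
    intro h h'
    subst h'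
    apply h1
    rw [e3, h, inv_mul_cancel]
  have k4 : z⁻¹ = z' * z' → z = z' → False := by
    intro h h'
    subst h'
    apply h1
    rw [e3, ← h, inv_mul_cancel]
  have k5 : z * z = z'⁻¹ → z⁻¹ = z' * z' → z = z' := by
    intro ha hb
    have h3 : z * z * z' = 1 := by rw [ha, inv_mul_cancel]
    have h4 : z' * z' * z = 1 := by rw [← hb, inv_mul_cancel]
    have h5 : z * (z * z') = z' * (z * z') := by
      rw [← mul_assoc, h3, ← mul_assoc, mul_comm z' z, mul_assoc, mul_comm z, h4]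
    exact mul_right_cancel h5
  fin_cases i <;> fin_cases k <;> simp at ha hb ⊢
  · exact k1 ha
  · exact (k3 ha hb).elim
  · exact (k3 ha (k5 ha hb)).elim
  · exact (k4 ha hb).elim
  · exact ha
  · exact (k4 hb ha).elim
  · exact (k4 ha (k5 hb ha)).elim
  · exact (k3 hb ha).elim
  · exact ha

theorem rota {G H : Type*} [CommGroup G] [CommGroup H] (f : G →* H) (ε : G) (i : Fin 3) :
    f ((![ε, ε⁻¹, 1] : Fin 3 → G) (-i)) * (f ((![ε, ε⁻¹, 1] : Fin 3 → G) (1 - i)))⁻¹ =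
      (![f ε * f ε, (f ε)⁻¹, (f ε)⁻¹] : Fin 3 → H) i := by
  have h0 : (-(0 : Fin 3)) = 0 := by decide
  have h1 : (-(1 : Fin 3)) = 2 := by decide
  have h2 : (-(2 : Fin 3)) = 1 := by decide
  have k0 : (1 - (0 : Fin 3)) = 1 := by decide
  have k1 : (1 - (1 : Fin 3)) = 0 := by decide
  have k2 : (1 - (2 : Fin 3)) = 2 := by decide
  fin_cases i
  · show f ((![ε, ε⁻¹, 1] : Fin 3 → G) (-0)) * (f ((![ε, ε⁻¹, 1] : Fin 3 → G) (1 - 0)))⁻¹ = f ε * f ε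
    rw [h0, k0]; simp
  · show f ((![ε, ε⁻¹, 1] : Fin 3 → G) (-1)) * (f ((![ε, ε⁻¹, 1] : Fin 3 → G) (1 - 1)))⁻¹ = (f ε)⁻¹
    rw [h1, k1]; simp
  · show f ((![ε, ε⁻¹, 1] : Fin 3 → G) (-2)) * (f ((![ε, ε⁻¹, 1] : Fin 3 → G) (1 - 2)))⁻¹ = (f ε)⁻¹
    rw [h2, k2]; simp

theorem rotb {G H : Type*} [CommGroup G] [CommGroup H] (f : G →* H) (ε : G) (i : Fin 3) :
    f ((![1, ε, ε⁻¹] : Fin 3 → G) (-i)) * (f ((![1, ε, ε⁻¹] : Fin 3 → G) (1 - i)))⁻¹ =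
      (![(f ε)⁻¹, (f ε)⁻¹, f ε * f ε] : Fin 3 → H) i := by
  have h0 : (-(0 : Fin 3)) = 0 := by decide
  have h1 : (-(1 : Fin 3)) = 2 := by decide
  have h2 : (-(2 : Fin 3)) = 1 := by decide
  have k0 : (1 - (0 : Fin 3)) = 1 := by decide
  have k1 : (1 - (1 : Fin 3)) = 0 := by decide
  have k2 : (1 - (2 : Fin 3)) = 2 := by decide
  fin_cases i
  · show f ((![1, ε, ε⁻¹] : Fin 3 → G) (-0)) * (f ((![1, ε, ε⁻¹] : Fin 3 → G) (1 - 0)))⁻¹ = (f ε)⁻¹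
    rw [h0, k0]; simp
  · show f ((![1, ε, ε⁻¹] : Fin 3 → G) (-1)) * (f ((![1, ε, ε⁻¹] : Fin 3 → G) (1 - 1)))⁻¹ = (f ε)⁻¹
    rw [h1, k1]; simp
  · show f ((![1, ε, ε⁻¹] : Fin 3 → G) (-2)) * (f ((![1, ε, ε⁻¹] : Fin 3 → G) (1 - 2)))⁻¹ = f ε * f ε
    rw [h2, k2]; simp

theorem pow3 {G : Type*} [CommGroup G] {k : ℕ} {ε : G} (h : ε ^ 3 ^ k = 1) :
    (![ε, ε⁻¹, 1] : Fin 3 → G) ^ 3 ^ k = 1 ∧ (![1, ε, ε⁻¹] : Fin 3 → G) ^ 3 ^ k = 1 ∧ (![ε, 1, 1] : Fin 3 → G) ^ 3 ^ k = 1 := by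
  refine ⟨?_, ?_, ?_⟩ <;>
  · funext i
    fin_cases i <;> simp [h]

section
variable {F : Type*} [Field F]

/-- the orbit of the values -/
theorem exists_val [Finite F] (hq : 3 ∣ Nat.card F - 1) {l : Fˣ →* ℂˣ} (hl : ∀ x, l x ^ 9 = 1)
    (hl1 : ∃ x, l x ^ 3 ≠ 1) {σ : F ≃+* F} {c : ℕ} (hσ : σ ^ 3 ^ c = 1) (hfix : ¬ Fix (sv l) σ) :
    ∃ ε : Fˣ, (∃ k, ε ^ 3 ^ k = 1) ∧ ∃ z : ℕ → ℂˣ, (∀ j, l (Units.map ((σ ^ j : F ≃+* F) : F →* F) ε) = z j) ∧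
      (∀ j, z j ^ 3 = z 0 ^ 3) ∧ z 0 ^ 3 ≠ 1 ∧ ∀ i j : Fin 3, z i = z j → i = j := by
  have hp : Fact (Nat.Prime 3) := ⟨Nat.prime_three⟩
  obtain ⟨u, hu⟩ := hl1
  obtain ⟨m, hm, k, hk⟩ := exists_exp (p := 3) hq hσ
  have hmk : m = 1 + 3 * k := by push_cast at hk; omega
  obtain ⟨c0, ε, r, hε, hε1⟩ := exists_ppart Nat.prime_three 2 u
  obtain ⟨η, hη⟩ : ∃ η, η = l ε := ⟨_, rfl⟩
  have hηu : η = l u := by
    rw [hη, hε, map_mul, map_pow]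
    rw [show 3 ^ 2 = 9 by norm_num, hl, one_mul]
  have hη9 : η ^ 9 = 1 := by rw [hη, hl]
  have hη3 : η ^ 3 ≠ 1 := by rw [hηu]; exact hu
  obtain ⟨w, hw⟩ : ∃ w, w = η ^ 3 := ⟨_, rfl⟩
  have hw3 : w ^ 3 = 1 := by rw [hw, ← pow_mul]; exact hη9
  have hwo : orderOf w = 3 := orderOf_eq_prime hw3 (by rw [hw]; exact hη3)
  obtain ⟨ρ, hρ⟩ : ∃ ρ, ρ = w ^ k := ⟨_, rfl⟩
  have hρ3 : ρ ^ 3 = 1 := by
    rw [hρ, ← _root_.zpow_natCast, ← _root_.zpow_mul, mul_comm, _root_.zpow_mul, _root_.zpow_natCast, hw3,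
      _root_.one_zpow]
  have hρ1 : ρ ≠ 1 := by
    intro h
    apply hfix
    rw [hρ, ← orderOf_dvd_iff_zpow_eq_one, hwo] at h
    obtain ⟨k', hk'⟩ := h
    have hb : ∀ x : Fˣ, l (Units.map (σ : F →* F) x) = l x := by
      intro x
      rw [hm, map_zpow, hmk, hk']
      have : (1 : ℤ) + 3 * (((3 : ℕ) : ℤ) * k') = 1 + 9 * k' := by push_cast; ring
      rw [this, _root_.zpow_add, _root_.zpow_one, _root_.zpow_mul]
      have h9 : l x ^ (9 : ℤ) = 1 := by exact_mod_cast hl x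
      rw [h9, _root_.one_zpow, mul_one]
    intro i x
    fin_cases i
    · exact hb x
    · show (l (Units.map (σ : F →* F) x))⁻¹ = (l x)⁻¹
      rw [hb]
    · rfl
  have hρo : orderOf ρ = 3 := orderOf_eq_prime hρ3 hρ1
  have hz : ∀ j : ℕ, l (Units.map ((σ ^ j : F ≃+* F) : F →* F) ε) = η * ρ ^ j := by
    intro j
    induction j with
    | zero =>
      rw [pow_zero, pow_zero, mul_one, hη]
      congr 1
    | succ j ih =>
      have e : Units.map ((σ ^ (j + 1) : F ≃+* F) : F →* F) ε =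
          Units.map (σ : F →* F) (Units.map ((σ ^ j : F ≃+* F) : F →* F) ε) := by
        apply Units.ext
        rw [pow_succ']
        rfl
      rw [e, hm, map_zpow, ih, hmk, _root_.zpow_add, _root_.zpow_one, _root_.zpow_mul]
      have h3 : (η * ρ ^ j) ^ (3 : ℤ) = w := by
        have : (η * ρ ^ j) ^ (3 : ℤ) = (η * ρ ^ j) ^ 3 := by norm_cast
        rw [this, mul_pow, ← hw, ← pow_mul, mul_comm j, pow_mul, hρ3, one_pow, mul_one]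
      rw [h3, ← hρ, mul_assoc, ← pow_succ]
  refine ⟨ε, ⟨r, hε1⟩, fun j => η * ρ ^ j, hz, ?_, ?_, ?_⟩
  · intro j
    show (η * ρ ^ j) ^ 3 = (η * ρ ^ 0) ^ 3
    rw [mul_pow, ← pow_mul, mul_comm j, pow_mul, hρ3, one_pow, pow_zero, mul_one, mul_one]
  · show (η * ρ ^ 0) ^ 3 ≠ 1
    rw [pow_zero, mul_one]
    exact hη3
  · intro i j h
    have h1 : ρ ^ (i : ℕ) = ρ ^ (j : ℕ) := mul_left_cancel h
    have h2 := pow_injOn_Iio_orderOf (x := ρ) (show (i : ℕ) ∈ Set.Iio (orderOf ρ) by rw [hρo]; exact i.2)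
      (show (j : ℕ) ∈ Set.Iio (orderOf ρ) by rw [hρo]; exact j.2) h1
    exact Fin.ext h2


end

end Cfsg.Agent.H279.HT.ThreeVal
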